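import Groth.Agent.CastLib.Twist
import Groth.Agent.CastLib.EulerMultiple
import Groth.Agent.CanonFacLib.VertGen

/-!
# Lifting from closed subschemes
-/

set_option autoImplicit false
set_option backward.isDefEq.respectTransparency false
set_option backward.isDefEq.respectTransparency.types false
set_option linter.style.haveILetI false
set_option linter.unusedSectionVars false
set_option maxHeartbeats 1000000

universe u

open CategoryTheory CategoryTheory.Limits AlgebraicGeometry TopologicalSpace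
open Groth.Agent.PullbackMod Groth.Agent.AmpleLib
open Groth.Agent.CastLib (exists_lift)

noncomputable section

namespace Groth.Agent.RatSingLib

variable {X T : Scheme.{u}} (j : T ⟶ X) [IsClosedImmersion j]

/-- The sequence `I_E ⊗ M → M → M|_E` exists with no cohomological content. -/
theorem exists_seq [IsLocallyNoetherian X] {M : X.Modules} (hM : PicF.IsInvertible M) :
    ∃ S : ShortComplex X.Modules, S.ShortExact ∧ S.X₁ = CohB1.tensorMod (ClSub.idealMod j.ker) M ∧
      Nonempty (S.X₂ ≅ M) ∧ Nonempty (S.X₃ ≅ (Scheme.Modules.pushforward j).obj ((Scheme.Modules.pullback j).obj M)) ∧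
      S.X₃ = CohB1.tensorMod (ClSub.quotMod j.ker) M := by
  have hS := H1ZeroLib.kerSeq_shortExact (ClSub.toSubscheme j.ker) fun x => by
    haveI : Epi (ClSub.toSubscheme j.ker) := HilbObsLib.epi_toSubscheme _
    exact (PullbackMod.epi_iff_stalk _).1 inferInstance x
  obtain ⟨q⟩ := TwistShriek.nonempty_quotMod_ker_iso j
  exact ⟨_, CurveLib.shortExact_tensR hS (CurveLib.freeAt_one_of_isInvertible hM), rfl, ⟨unitL M⟩,
    ⟨((DCoh.tensorBi (X := X)).mapIso q).app M ≪≫ DCohLib.projIso j (Coh.structureModule _) M ≪≫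
      (Scheme.Modules.pushforward j).mapIso (unitL _)⟩, rfl⟩

/-- Sections on the line lift to sections generating where they do. -/
theorem exists_lift_gen [IsLocallyNoetherian X] {M : X.Modules} (hM : PicF.IsInvertible M)
    (h1 : Subsingleton (Coh.HH X (CohB1.tensorMod (ClSub.idealMod j.ker) M) 1))
    (θ : Coh.structureModule T ⟶ (Scheme.Modules.pullback j).obj M) :
    ∃ τ : Coh.structureModule X ⟶ M, CohB1.genLocus _ θ ≤ j ⁻¹ᵁ CohB1.genLocus M τ := by
  obtain ⟨S, hS, e1, ⟨e2⟩, ⟨e3⟩, -⟩ := exists_seq j hM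
  haveI : Subsingleton (Coh.HH X S.X₁ 1) := by rw [e1]; exact h1
  let P := (Scheme.Modules.pullback j).obj M
  have hP : PicF.IsInvertible P := isInvertible_pullback j hM
  let π : M ⟶ (Scheme.Modules.pushforward j).obj P := e2.inv ≫ S.g ≫ e3.hom
  let σ : Coh.structureModule X ⟶ (Scheme.Modules.pushforward j).obj P :=
    DCohLib.secHom _ (show Γ((Scheme.Modules.pushforward j).obj P, ⊤) from sec (L := P) θ)
  obtain ⟨τ₀, hτ₀⟩ := exists_lift hS (σ ≫ e3.inv)
  refine ⟨τ₀ ≫ e2.hom, fun z hz => ?_⟩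
  have hπ : (τ₀ ≫ e2.hom) ≫ π = σ := by
    simp only [π, Category.assoc, Iso.hom_inv_id_assoc]
    rw [reassoc_of% hτ₀, Iso.inv_hom_id, Category.comp_id]
  obtain ⟨W, e, hxW, he⟩ := ParaFLib.exists_gen_nhd hM (j z)
  obtain ⟨r, hr⟩ := (he W le_rfl).2 (resT (sec (τ₀ ≫ e2.hom)) W)
  simp only [ParaFLib.res_self] at hr
  show j z ∈ CohB1.genLocus M (τ₀ ≫ e2.hom)
  refine ((genLocus_inf_eq_basicOpen _ he hr).ge ?_).1
  -- compare on the line
  let v : Γ(P, j ⁻¹ᵁ W) := π.app W e
  have hθ : resT (sec θ) (j ⁻¹ᵁ W) = j.app W r • v := by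
    have h2 : π.app W (r • e) = j.app W r • v := Scheme.Modules.Hom.app_smul π r e
    rw [← h2, hr]
    have h3 : sec σ = (show Γ((Scheme.Modules.pushforward j).obj P, ⊤) from sec (L := P) θ) := sec_secHom _
    have h5 : π.app ⊤ (sec (τ₀ ≫ e2.hom)) = sec σ := congrArg sec hπ
    show _ = π.app W (M.presheaf.map (homOfLE (le_top : W ≤ ⊤)).op (sec (τ₀ ≫ e2.hom)))
    refine Eq.symm (Eq.trans (ConcreteCategory.congr_hom (π.mapPresheaf.naturality (homOfLE (le_top : W ≤ ⊤)).op)
      (sec (τ₀ ≫ e2.hom))) ?_)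
    show ((Scheme.Modules.pushforward j).obj P).presheaf.map _ (π.app ⊤ (sec (τ₀ ≫ e2.hom))) = _
    rw [h5, h3]
    rfl
  have hu : IsUnit (T.presheaf.germ (j ⁻¹ᵁ W) z hxW (j.app W r)) := by
    have hb := (mem_genLocus_iff hP).1 hz
    have h4 : P.presheaf.germ ⊤ z trivial (sec θ) =
        T.presheaf.germ (j ⁻¹ᵁ W) z hxW (j.app W r) • P.presheaf.germ (j ⁻¹ᵁ W) z hxW v := by
      rw [← ParaFLib.germ_smul', ← hθ, resT, TopCat.Presheaf.germ_res_apply]
    rw [h4] at hb
    obtain ⟨b, hb'⟩ := hb.2 (P.presheaf.germ (j ⁻¹ᵁ W) z hxW v)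
    obtain ⟨g, hg⟩ := ParaFLib.exists_stalk_gen hP z
    obtain ⟨a, ha⟩ := hg.2 (P.presheaf.germ (j ⁻¹ᵁ W) z hxW v)
    simp only at ha hb'
    rw [← ha] at hb
    have hb2 : IsUnit (T.presheaf.germ (j ⁻¹ᵁ W) z hxW (j.app W r) * a) := by
      rw [← bijective_smul_iff hg]
      simpa [smul_smul] using hb
    exact isUnit_of_mul_isUnit_left hb2
  have hz' : z ∈ T.basicOpen (j.app W r) :=
    (T.mem_basicOpen (j.app W r) z hxW).2 hu
  rw [← Scheme.preimage_basicOpen] at hz'
  exact hz'

/-- One step of the vanishing. -/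
theorem subsingleton_step [IsLocallyNoetherian X] {M : X.Modules} (hM : PicF.IsInvertible M)
    (h1 : Subsingleton (Coh.HH X (CohB1.tensorMod (ClSub.idealMod j.ker) M) 1))
    (h2 : Subsingleton (Coh.HH T ((Scheme.Modules.pullback j).obj M) 1)) :
    Subsingleton (Coh.HH X M 1) := by
  obtain ⟨S, hS, e1, ⟨e2⟩, ⟨e3⟩, -⟩ := exists_seq j hM
  haveI : Coh.IsQCoh ((Scheme.Modules.pullback j).obj M) :=
    InvExt.isQCoh_of_isInvertible (AmpleLib.isInvertible_pullback j hM)
  obtain ⟨e, -⟩ := ProperFin.exists_pushEquiv j (M := (Scheme.Modules.pullback j).obj M)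
    (fun _ hV m => CohBase.affine_vanishing _ (hV.preimage j) m) 1
  haveI : Subsingleton (Coh.HH X S.X₁ 1) := by rw [e1]; exact h1
  haveI : Subsingleton (Coh.HH X S.X₃ 1) := CurveLib.subsingleton_HH_iso e3.symm 1 (by
    haveI := h2
    exact e.symm.toEquiv.subsingleton)
  exact CurveLib.subsingleton_HH_iso e2 1 (CurveLib.subsingleton_mid hS 1)

/-- Lengths of cohomology on a closed subscheme and of its direct image agree. -/
theorem length_push {R : Type u} [CommRing R] (p : X ⟶ Spec (CommRingCat.of R)) (M : T.Modules) (hM : Coh.IsQCoh M)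
    (n : ℕ) :
    letI : X.Over (Spec (CommRingCat.of R)) := ⟨p⟩
    letI : T.Over (Spec (CommRingCat.of R)) := ⟨j ≫ p⟩
    Module.length R (Coh.HH X ((Scheme.Modules.pushforward j).obj M) n) = Module.length R (Coh.HH T M n) := by
  letI : X.Over (Spec (CommRingCat.of R)) := ⟨p⟩
  letI : T.Over (Spec (CommRingCat.of R)) := ⟨j ≫ p⟩
  haveI := hM
  obtain ⟨e, he⟩ := ProperFin.exists_pushEquiv j (M := M)
    (fun _ hV m => CohBase.affine_vanishing M (hV.preimage j) m) n
  let L : Coh.HH T M n ≃ₗ[R] Coh.HH X ((Scheme.Modules.pushforward j).obj M) n :=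
    { e with
      map_smul' := fun a x => by
        show e (Coh.toGlobal (j ≫ p) a • x) = Coh.toGlobal p a • e x
        exact he _ x }
  exact L.length_eq.symm

end Groth.Agent.RatSingLib

namespace Groth.Agent.RatSingLib

variable {W : Scheme.{u}}

/-- Sections avoiding finitely many points, over a local ring. -/
theorem exists_section_avoid {A : Type u} [CommRing A] [IsLocalRing A] [Infinite (IsLocalRing.ResidueField A)]
    (γ : A →+* Γ(W, ⊤)) {N : W.Modules}
    (hN : PicF.IsInvertible N) (hgg : Curv2.IsGloballyGenerated N) (T : Finset W) :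
    ∃ s : Coh.structureModule W ⟶ N, ∀ y ∈ T, y ∈ CohB1.genLocus N s := by
  classical
  have good : ∀ (y : W) (σ : Γ(N, ⊤)) (e : N.presheaf.stalk y)
      (_ : Function.Bijective fun r : W.presheaf.stalk y => r • e) (a : W.presheaf.stalk y),
      a • e = N.presheaf.germ ⊤ y trivial σ → (y ∈ CohB1.genLocus N (DCohLib.secHom N σ) ↔ IsUnit a) := by
    intro y σ e he a ha
    rw [AmpleLib.mem_genLocus_iff hN, CanonFac.sec_secHom, ← ha, AmpleLib.bijective_smul_iff he]
  suffices h : ∃ σ : Γ(N, ⊤), ∀ y ∈ T, y ∈ CohB1.genLocus N (DCohLib.secHom N σ) from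
    ⟨_, h.choose_spec⟩
  induction T using Finset.induction_on with
  | empty => exact ⟨0, fun y hy => absurd hy (Finset.notMem_empty y)⟩
  | @insert x T hx ih =>
    obtain ⟨σ, hσ⟩ := ih
    obtain ⟨e, he⟩ := ParaFLib.exists_stalk_gen hN x
    obtain ⟨τ, hτ⟩ : ∃ τ : Γ(N, ⊤), x ∈ CohB1.genLocus N (DCohLib.secHom N τ) := by
      by_contra hno
      push Not at hno
      have hle : Submodule.span (W.presheaf.stalk x)
          (Set.range fun σ : Γ(N, ⊤) => N.presheaf.germ ⊤ x (Opens.mem_top x) σ) ≤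
          Submodule.map (LinearMap.toSpanSingleton _ _ e) (IsLocalRing.maximalIdeal (W.presheaf.stalk x)) := by
        refine Submodule.span_le.2 ?_
        rintro _ ⟨τ, rfl⟩
        obtain ⟨a, ha⟩ := he.2 (N.presheaf.germ ⊤ x trivial τ)
        exact ⟨a, (IsLocalRing.mem_maximalIdeal a).2 fun hu => hno τ ((good x τ e he a ha).2 hu), ha⟩
      rw [ProjBundleLib.span_germ_of_isGloballyGenerated hgg x] at hle
      obtain ⟨a, ha, hae⟩ := hle (Submodule.mem_top (x := e))
      have : a = 1 := he.1 (hae.trans (one_smul _ e).symm)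
      exact (IsLocalRing.maximalIdeal.isMaximal _).ne_top ((Ideal.eq_top_iff_one _).2 (this ▸ ha))
    let lift : IsLocalRing.ResidueField A → A := Function.surjInv IsLocalRing.residue_surjective
    have hlift : ∀ c, IsLocalRing.residue A (lift c) = c := Function.surjInv_eq IsLocalRing.residue_surjective
    have hbad : ∀ y ∈ insert x T, {c : IsLocalRing.ResidueField A | y ∉ CohB1.genLocus N
        (DCohLib.secHom N (σ + γ (lift c) • τ))}.Subsingleton := by
      intro y hy c hc c' hc'
      obtain ⟨e1, he1⟩ := ParaFLib.exists_stalk_gen hN y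
      obtain ⟨a, ha⟩ := he1.2 (N.presheaf.germ ⊤ y trivial σ)
      obtain ⟨b, hb⟩ := he1.2 (N.presheaf.germ ⊤ y trivial τ)
      dsimp only at ha hb
      let ρ := (W.presheaf.germ ⊤ y trivial).hom.comp γ
      have hval : ∀ d : A, (a + ρ d * b) • e1 = N.presheaf.germ ⊤ y trivial (σ + γ d • τ) := fun d => by
        rw [map_add, ParaFLib.germ_smul', add_smul, mul_smul, ha, hb]
        rfl
      have hm : ∀ d : A, y ∉ CohB1.genLocus N (DCohLib.secHom N (σ + γ d • τ)) →
          a + ρ d * b ∈ IsLocalRing.maximalIdeal _ := fun d hd =>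
        (IsLocalRing.mem_maximalIdeal _).2 fun hu => hd ((good y _ e1 he1 _ (hval d)).2 hu)
      by_contra hne
      have hu : IsUnit (ρ (lift c - lift c')) := IsUnit.map ρ (IsLocalRing.residue_ne_zero_iff_isUnit _ |>.1 (by
        rw [map_sub, hlift, hlift]; exact sub_ne_zero.2 hne))
      have h2 : ρ (lift c - lift c') * b ∈ IsLocalRing.maximalIdeal _ := by
        rw [map_sub, show (ρ (lift c) - ρ (lift c')) * b = (a + ρ (lift c) * b) - (a + ρ (lift c') * b) by ring]
        exact sub_mem (hm _ hc) (hm _ hc')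
      have hb' : b ∈ IsLocalRing.maximalIdeal _ := (Ideal.unit_mul_mem_iff_mem _ hu).1 h2
      have ha' : a ∈ IsLocalRing.maximalIdeal _ := by
        simpa using sub_mem (hm _ hc) (Ideal.mul_mem_left _ (ρ (lift c)) hb')
      rcases Finset.mem_insert.1 hy with rfl | hyT
      · exact (IsLocalRing.mem_maximalIdeal b).1 hb' ((good _ τ e1 he1 b hb).1 hτ)
      · exact (IsLocalRing.mem_maximalIdeal a).1 ha' ((good y σ e1 he1 a ha).1 (hσ y hyT))
    obtain ⟨c, hc⟩ := ((insert x T).finite_toSet.biUnion fun y hy => (hbad y hy).finite).infinite_compl.nonempty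
    exact ⟨σ + γ (lift c) • τ, fun y hy => by
      by_contra h
      exact hc (Set.mem_biUnion hy h)⟩

end Groth.Agent.RatSingLib
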