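import Groth.Agent.RatSingLib.Tangent
import Groth.Agent.CastLib.ArtinContract
import Groth.Agent.CanonFacLib.Pic0
import Groth.Agent.CanonFacLib.Genus

/-!
# Configurations of curves of canonical degree zero
-/

set_option autoImplicit false
set_option backward.isDefEq.respectTransparency false
set_option backward.isDefEq.respectTransparency.types false
set_option linter.style.haveILetI false
set_option linter.unusedSectionVars false
set_option maxHeartbeats 1000000

universe u

open CategoryTheory CategoryTheory.Limits AlgebraicGeometry TopologicalSpace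
open Groth.Agent.CanonFac (divIdeal)

noncomputable section

namespace Groth.Agent.RatSingLib

variable {R : Type u} [CommRing R] [IsDomain R] [IsDiscreteValuationRing R]
variable {X : Over (Spec (CommRingCat.of R))} {r : ℕ} {Γ : Fin r → ArSurf.VertComp R X}
variable {L : Fin r → X.left.Modules}

/-- Configurations all whose combinations have negative arithmetic degree. -/
theorem rational_of_pa (hX : ArSurf.IsArithSurface R X) {ω : X.left.Modules} (hω : Canon.IsCanonical X.hom ω)
    (hΓ : Function.Injective fun i => Set.range ((Γ i).ι.base : (Γ i).curve.left → X.left))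
    (hL : ∀ j, ClSub.IsInverseOf (L j) (ClSub.idealMod (Γ j).ι.ker))
    (hpa : ∀ a : Fin r → ℕ, a ≠ 0 →
      ∑ i, (a i : ℤ) * (∑ j, (a j : ℤ) * ArSurf.inter R X (L j) (Γ i) + ArSurf.inter R X ω (Γ i)) < 0) :
    NoH1 Γ ∧ NoPic0 Γ :=
  ⟨fun a _ => (CanonFac.h1_pic0 hX hω Γ hL a fun a' _ h => hpa a' h).1,
    noPic0_of_divIdeal hX hΓ fun a _ => (CanonFac.h1_pic0 hX hω Γ hL a fun a' _ h => hpa a' h).2⟩

/-- Canonical degree zero gives negative arithmetic degree. -/
theorem pa_neg_of_K_zero {ω : X.left.Modules} (hK : ∀ i, ArSurf.inter R X ω (Γ i) = 0)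
    (hneg : ∀ a : Fin r → ℤ, a ≠ 0 →
      (Finset.univ : Finset (Fin r × Fin r)).sum (fun p => a p.1 * a p.2 * ArSurf.inter R X (L p.2) (Γ p.1)) < 0)
    (a : Fin r → ℕ) (ha : a ≠ 0) :
    ∑ i, (a i : ℤ) * (∑ j, (a j : ℤ) * ArSurf.inter R X (L j) (Γ i) + ArSurf.inter R X ω (Γ i)) < 0 := by
  refine lt_of_eq_of_lt ?_ (hneg (fun i => (a i : ℤ)) fun h => ha (funext fun i => by simpa using congrFun h i))
  rw [Fintype.sum_prod_type]
  exact Finset.sum_congr rfl fun i _ => by
    rw [hK i, add_zero, Finset.mul_sum]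
    exact Finset.sum_congr rfl fun j _ => by ring

/-- Negative definiteness passes to subfamilies. -/
theorem neg_sub {s : ℕ} (e : Fin s → Fin r) (he : Function.Injective e)
    (hneg : ∀ a : Fin r → ℤ, a ≠ 0 →
      (Finset.univ : Finset (Fin r × Fin r)).sum (fun p => a p.1 * a p.2 * ArSurf.inter R X (L p.2) (Γ p.1)) < 0)
    (a : Fin s → ℤ) (ha : a ≠ 0) :
    (Finset.univ : Finset (Fin s × Fin s)).sum
      (fun p => a p.1 * a p.2 * ArSurf.inter R X (L (e p.2)) (Γ (e p.1))) < 0 := by
  refine lt_of_eq_of_lt ?_ (hneg (Function.extend e a 0) fun h => ha (funext fun i => by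
    have := congrFun h (e i); rwa [he.extend_apply] at this))
  rw [Fintype.sum_prod_type, Fintype.sum_prod_type]
  refine Fintype.sum_of_injective e he _ _ (fun i hi => ?_) fun i => ?_
  · exact Finset.sum_eq_zero fun j _ => by
      rw [Function.extend_apply' _ _ _ (fun ⟨k, hk⟩ => hi ⟨k, hk⟩)]; simp
  · refine Fintype.sum_of_injective e he _ _ (fun j hj => ?_) fun j => ?_
    · show Function.extend e a 0 (e i) * Function.extend e a 0 j * _ = 0
      rw [Function.extend_apply' _ _ j (fun ⟨k, hk⟩ => hj ⟨k, hk⟩)]; simp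
    · show _ = Function.extend e a 0 (e i) * Function.extend e a 0 (e j) * _
      rw [he.extend_apply, he.extend_apply]

/-- Off the contracted curves the target is regular of dimension at most two. -/
theorem finrank_cotangent_off (hX : ArSurf.IsArithSurface R X) {Y : Over (Spec (CommRingCat.of R))} (f : X ⟶ Y)
    [IsLocallyNoetherian Y.left] [Surjective f.left] {V : Y.left.Opens} [IsIso (f.left ∣_ V)] {y : Y.left}
    (hy : y ∈ V) :
    Module.finrank (IsLocalRing.ResidueField (Y.left.presheaf.stalk y))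
      (IsLocalRing.CotangentSpace (Y.left.presheaf.stalk y)) ≤ 2 := by
  obtain ⟨x, hx⟩ := f.left.surjective y
  subst hx
  haveI : IsIso (f.left.stalkMap x) := by
    have h : IsIso ((f.left ∣_ V).stalkMap ⟨x, hy⟩) := inferInstance
    exact (MorphismProperty.arrow_mk_iso_iff (MorphismProperty.isomorphisms CommRingCat)
      (morphismRestrictStalkMap f.left V ⟨x, hy⟩)).1 h
  haveI := hX.1 x
  haveI : IsRegularLocalRing (Y.left.presheaf.stalk (f.left x)) :=
    IsRegularLocalRing.of_ringEquiv (asIso (f.left.stalkMap x)).symm.commRingCatIsoToRingEquiv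
  have h := (IsRegularLocalRing.iff_finrank_cotangentSpace _).1
    ‹IsRegularLocalRing (Y.left.presheaf.stalk (f.left x))›
  have hd : ringKrullDim (Y.left.presheaf.stalk (f.left x)) ≤ 2 := by
    rw [ringKrullDim_eq_of_ringEquiv (asIso (f.left.stalkMap x)).commRingCatIsoToRingEquiv,
      ringKrullDim_stalk_eq_coheight]
    refine (Order.coheight_le_krullDim _).trans ?_
    rw [← ASp.topologicalKrullDim_eq_krullDim, hX.2.2.1]
  rw [← h] at hd
  exact_mod_cast hd

/-- **Tangent dimension three for configurations of canonical degree zero.** -/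
theorem finrank_cotangent_minusTwo [Infinite (IsLocalRing.ResidueField R)] (hX : ArSurf.IsArithSurface R X)
    (hΓ : Function.Injective fun i => Set.range ((Γ i).ι.base : (Γ i).curve.left → X.left))
    (hL : ∀ j, ClSub.IsInverseOf (L j) (ClSub.idealMod (Γ j).ι.ker))
    (hneg : ∀ a : Fin r → ℤ, a ≠ 0 →
      (Finset.univ : Finset (Fin r × Fin r)).sum (fun p => a p.1 * a p.2 * ArSurf.inter R X (L p.2) (Γ p.1)) < 0)
    {ω : X.left.Modules} (hω : Canon.IsCanonical X.hom ω) (hK : ∀ i, ArSurf.inter R X ω (Γ i) = 0)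
    {Y : Over (Spec (CommRingCat.of R))} {f : X ⟶ Y} (hf : CastLib.IsContr Γ f) (y : Y.left) :
    Module.finrank (IsLocalRing.ResidueField (Y.left.presheaf.stalk y))
      (IsLocalRing.CotangentSpace (Y.left.presheaf.stalk y)) ≤ 3 := by
  classical
  haveI := hX.2.1
  haveI : IsProper X.hom := (SurfPtBlow.arSurf_facts hX).1
  obtain ⟨hp, hs, hb⟩ := hf.facts ‹IsProper X.hom›
  haveI := hp
  haveI := hs
  obtain ⟨hint, hn, hdim, hflat, hproj, hpt, hsat, hiso⟩ := hf
  haveI := CastLib.isProper_of_projective hproj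
  haveI : IsLocallyNoetherian Y.left := LocallyOfFiniteType.isLocallyNoetherian Y.hom
  let E : Set X.left := ⋃ i, Set.range (Γ i).ι
  have hE : IsClosed (f.left '' E) := f.left.isClosedMap _
    (isClosed_iUnion_of_finite fun i => (Γ i).ι.isClosedEmbedding.isClosed_range)
  by_cases hy : y ∈ f.left '' E
  swap
  · let V : Y.left.Opens := ⟨(f.left '' E)ᶜ, hE.isOpen_compl⟩
    haveI := hiso V (Set.compl_inter_self _)
    exact (finrank_cotangent_off hX f (V := V) hy).trans (by omega)
  choose pt hpt using hpt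
  have hpt' : ∀ i c, f.left ((Γ i).ι c) = pt i := fun i c => (hpt i).le ⟨c, rfl⟩
  let T := {i : Fin r // pt i = y}
  let e : Fin (Fintype.card T) → Fin r := fun k => ((Fintype.equivFin T).symm k).1
  have he : Function.Injective e := Subtype.val_injective.comp (Fintype.equivFin T).symm.injective
  let Γ' := Γ ∘ e
  let L' := L ∘ e
  have hfib : f.left ⁻¹' {y} = ⋃ k, Set.range (Γ' k).ι.base := by
    refine Set.Subset.antisymm (fun a ha => ?_) ?_
    · have ha' : a ∈ f.left.base ⁻¹' (f.left.base '' ⋃ i, Set.range (Γ i).ι.base) := show f.left a ∈ _ by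
        rw [show f.left a = y from ha]; exact hy
      rw [hsat] at ha'
      obtain ⟨i, c, rfl⟩ := Set.mem_iUnion.1 ha'
      refine Set.mem_iUnion.2 ⟨Fintype.equivFin T ⟨i, (hpt' i c).symm.trans ha⟩, ?_⟩
      show (Γ i).ι c ∈ Set.range (Γ (e (Fintype.equivFin T ⟨i, (hpt' i c).symm.trans ha⟩))).ι
      rw [show e (Fintype.equivFin T ⟨i, (hpt' i c).symm.trans ha⟩) = i from
        congrArg Subtype.val ((Fintype.equivFin T).symm_apply_apply _)]
      exact ⟨c, rfl⟩
    · refine Set.iUnion_subset fun k => ?_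
      rintro _ ⟨c, rfl⟩
      exact (hpt' (e k) c).trans ((Fintype.equivFin T).symm k).2
  have hne : (⋃ k, Set.range (Γ' k).ι.base).Nonempty := by
    rw [← hfib]
    obtain ⟨a, ha⟩ := f.left.surjective y
    exact ⟨a, ha⟩
  have hyc : IsClosed ({y} : Set Y.left) := by
    obtain ⟨a, ha⟩ := hne
    obtain ⟨k, c, hc⟩ := Set.mem_iUnion.1 ha
    have hye : y = pt (e k) := ((Fintype.equivFin T).symm k).2.symm
    haveI := CastLib.isProper_vertComp (Γ (e k))
    rw [hye, ← hpt (e k)]
    exact ((Γ (e k)).ι ≫ f.left).isClosedMap.isClosed_range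
  have hΓ' : Function.Injective fun i => Set.range ((Γ' i).ι.base : (Γ' i).curve.left → X.left) := hΓ.comp he
  have hL' : ∀ j, ClSub.IsInverseOf (L' j) (ClSub.idealMod (Γ' j).ι.ker) := fun j => hL (e j)
  have hneg' := neg_sub e he hneg
  obtain ⟨hH, hP⟩ := rational_of_pa hX hω hΓ' hL' (pa_neg_of_K_zero (fun i => hK (e i)) hneg')
  haveI := SteinConn.geometricallyConnected_of_bijApp f.left hb
  have hconn : _root_.IsConnected (⋃ k, Set.range (Γ' k).ι.base) := hfib ▸ f.left.isConnected_preimage_singleton y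
  have hV := CastLib.VSurf.of_arith hX
  obtain ⟨z, hz1, hz, hmin⟩ := exists_fundamental (fun j i => ArSurf.inter R X (L' j) (Γ' i))
    (fun j i hji => (hV.inter_nonneg_of_ne (fun h => hji (hΓ' h.symm)) (hL' j)).1)
    (fun a ha => by
      refine lt_of_eq_of_lt ?_ (hneg' a ha)
      rw [Fintype.sum_prod_type, Finset.sum_comm]
      exact Finset.sum_congr rfl fun i _ => Finset.sum_congr rfl fun j _ => by simp only [Γ', L', Function.comp_apply]; ring)
  have hz0 : ∀ i, z i ≠ 0 := fun i => Nat.one_le_iff_ne_zero.1 (hz1 i)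
  refine (finrank_cotangent_eq f ⟨hX, hΓ', hL', hH, hz⟩ hb hyc hfib hne hz0 hneg' hP
    (hV.isField_fundamental hΓ' hconn hL' z hz1 hz hmin) (exists_sections hX hΓ' hL' hH hP hz0 hz hne)
    (q := 2) ?_).le
  rw [Nat.cast_ofNat, CanonFac.two_chiLen_divIdeal hX hω Γ' hΓ' hL', selfInt, Fintype.sum_prod_type]
  congr 1
  refine Finset.sum_congr rfl fun i _ => ?_
  rw [show ArSurf.inter R X ω (Γ' i) = 0 from hK (e i), add_zero, Finset.mul_sum]
  exact Finset.sum_congr rfl fun j _ => by ring

end Groth.Agent.RatSingLib
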