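import Groth.Agent.RatSingLib.Hilbert
import Groth.Agent.CanonFacLib.Genus
import Groth.Agent.CastLib.Fundamental
import Groth.Agent.CurveFF.MapPlaces

/-!
# The Hilbert–Samuel function of a rational singularity
-/

set_option autoImplicit false
set_option backward.isDefEq.respectTransparency false
set_option backward.isDefEq.respectTransparency.types false
set_option linter.style.haveILetI false
set_option linter.unusedSectionVars false
set_option maxHeartbeats 1000000

universe u

open CategoryTheory CategoryTheory.Limits AlgebraicGeometry TopologicalSpace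
open Groth.Agent.AmpleLib
open Groth.Agent.CanonFac (divIdeal)

noncomputable section

namespace Groth.Agent.RatSingLib

variable {R : Type u} [CommRing R] [IsDomain R] [IsDiscreteValuationRing R]
variable {X : Over (Spec (CommRingCat.of R))} {r : ℕ} {Γ : Fin r → ArSurf.VertComp R X}
variable {L : Fin r → X.left.Modules} {z : Fin r → ℕ}

/-- The self intersection of a combination. -/
def selfInt (Γ : Fin r → ArSurf.VertComp R X) (L : Fin r → X.left.Modules) (z : Fin r → ℕ) : ℤ :=
  (Finset.univ : Finset (Fin r × Fin r)).sum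
    (fun p => (z p.1 : ℤ) * (z p.2 : ℤ) * ArSurf.inter R X (L p.2) (Γ p.1))

/-- Global functions on a divisor without first cohomology have finite length equal to its Euler characteristic. -/
theorem length_H0_eq_chiLen (hX : ArSurf.IsArithSurface R X) (hH : NoH1 Γ) {a : Fin r → ℕ} (ha : a ≠ 0) :
    letI : X.left.Over (Spec (CommRingCat.of R)) := ⟨X.hom⟩
    Module.length R (Coh.HH X.left (ClSub.quotMod (divIdeal Γ a)) 0) ≠ ⊤ ∧
      ((Module.length R (Coh.HH X.left (ClSub.quotMod (divIdeal Γ a)) 0)).toNat : ℤ) =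
        CastLib.chiLen R (ClSub.quotMod (divIdeal Γ a)) := by
  letI : X.left.Over (Spec (CommRingCat.of R)) := ⟨X.hom⟩
  haveI := (SurfPtBlow.arSurf_facts hX).1
  have hfin := CastLib.finLen_prod (CastLib.VSurf.of_arith hX) Γ a
  refine ⟨hfin 0 zero_le_one, ?_⟩
  haveI : IsLocallyNoetherian X.left := LocallyOfFiniteType.isLocallyNoetherian X.hom
  have hq : Coh.IsQCoh (Coh.structureModule (divIdeal Γ a).subscheme) :=
    InvExt.isQCoh_of_isInvertible ParaFLib.isInvertible_structureModule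
  haveI := hH a ha
  obtain ⟨e, -⟩ := ProperFin.exists_pushEquiv (divIdeal Γ a).subschemeι
    (M := Coh.structureModule (divIdeal Γ a).subscheme)
    (fun _ hV m => CohBase.affine_vanishing _ (hV.preimage (divIdeal Γ a).subschemeι) m) 1
  haveI : Subsingleton (Coh.HH X.left (ClSub.quotMod (divIdeal Γ a)) 1) := e.symm.toEquiv.subsingleton
  rw [CastLib.chiLen, show Module.length R (Coh.HH X.left (ClSub.quotMod (divIdeal Γ a)) 1) = 0 from
    Module.length_eq_zero, ENat.toNat_zero, Nat.cast_zero, sub_zero]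

/-- Global functions on the zeroth power. -/
theorem length_H0_one (hX : ArSurf.IsArithSurface R X) (D : X.left.IdealSheafData) :
    letI : X.left.Over (Spec (CommRingCat.of R)) := ⟨X.hom⟩
    Module.length R (Coh.HH X.left (ClSub.quotMod (D ^ 0)) 0) = 0 := by
  letI : X.left.Over (Spec (CommRingCat.of R)) := ⟨X.hom⟩
  haveI := (SurfPtBlow.arSurf_facts hX).1
  haveI hempty : IsEmpty (D ^ 0).subscheme := ⟨fun w => by
    have h := ((D ^ 0).range_subschemeι).le ⟨w, rfl⟩
    rw [SetLike.mem_coe, H1ZeroLib.mem_support_iff_stalk] at h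
    exact h ((InfNbhdLib.stalkIdeal_pow D 0 _).trans ((pow_zero _).trans Ideal.one_eq_top))⟩
  haveI : IsLocallyNoetherian X.left := LocallyOfFiniteType.isLocallyNoetherian X.hom
  have hq : Coh.IsQCoh (Coh.structureModule (D ^ 0).subscheme) :=
    InvExt.isQCoh_of_isInvertible ParaFLib.isInvertible_structureModule
  refine (length_push (R := R) (D ^ 0).subschemeι X.hom _ hq 0).trans ?_
  letI : (D ^ 0).subscheme.Over (Spec (CommRingCat.of R)) := ⟨(D ^ 0).subschemeι ≫ X.hom⟩
  haveI hΓ : Subsingleton Γ((D ^ 0).subscheme, ⊤) := by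
    rw [show (⊤ : (D ^ 0).subscheme.Opens) = ⊥ from Opens.ext (Set.ext fun w => isEmptyElim w)]
    infer_instance
  haveI : Subsingleton Γ(Coh.structureModule (D ^ 0).subscheme, ⊤) := hΓ
  haveI : Subsingleton (Coh.HH (D ^ 0).subscheme (Coh.structureModule (D ^ 0).subscheme) 0) :=
    (CurveLib.secOf (Coh.structureModule (D ^ 0).subscheme)).toEquiv.subsingleton
  exact Module.length_eq_zero

/-- **The growth of the lengths.** -/
theorem length_H0_step (hX : ArSurf.IsArithSurface R X)
    (hΓ : Function.Injective fun i => Set.range ((Γ i).ι.base : (Γ i).curve.left → X.left))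
    (hL : ∀ j, ClSub.IsInverseOf (L j) (ClSub.idealMod (Γ j).ι.ker)) (hH : NoH1 Γ) (hz : z ≠ 0)
    (hneg : selfInt Γ L z ≤ 0) (n : ℕ) :
    letI : X.left.Over (Spec (CommRingCat.of R)) := ⟨X.hom⟩
    Module.length R (Coh.HH X.left (ClSub.quotMod (divIdeal Γ z ^ (n + 1))) 0) =
      Module.length R (Coh.HH X.left (ClSub.quotMod (divIdeal Γ z ^ n)) 0) +
        ((n : ℤ) * -selfInt Γ L z).toNat + Module.length R (Coh.HH X.left (ClSub.quotMod (divIdeal Γ z ^ 1)) 0) := by
  letI : X.left.Over (Spec (CommRingCat.of R)) := ⟨X.hom⟩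
  obtain ⟨ω, hω⟩ := CanonFac.exists_canonical hX
  rcases Nat.eq_zero_or_pos n with rfl | hn
  · rw [length_H0_one hX (divIdeal Γ z)]
    simp
  have hne : ∀ m : ℕ, 0 < m → (fun i => m * z i) ≠ 0 := fun m hm h => hz (funext fun i =>
    (Nat.mul_eq_zero.1 (congrFun h i)).resolve_left hm.ne')
  have hχ : ∀ m : ℕ, 2 * CastLib.chiLen R (ClSub.quotMod (divIdeal Γ (fun i => m * z i))) =
      -((m : ℤ) ^ 2 * selfInt Γ L z + (m : ℤ) * ∑ i, (z i : ℤ) * ArSurf.inter R X ω (Γ i)) := fun m => by
    rw [CanonFac.two_chiLen_divIdeal hX hω Γ hΓ hL, selfInt, Fintype.sum_prod_type]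
    simp only [Finset.mul_sum, ← Finset.sum_add_distrib, mul_add]
    congr 1
    refine Finset.sum_congr rfl fun i _ => ?_
    congr 1
    · exact Finset.sum_congr rfl fun j _ => by push_cast; ring
    · push_cast; ring
  rw [divIdeal_smul, divIdeal_smul, divIdeal_smul]
  obtain ⟨f1, e1⟩ := length_H0_eq_chiLen hX hH (hne (n + 1) (Nat.succ_pos _))
  obtain ⟨f2, e2⟩ := length_H0_eq_chiLen hX hH (hne n hn)
  obtain ⟨f3, e3⟩ := length_H0_eq_chiLen hX hH (hne 1 one_pos)
  refine ((ENat.natCast_toNat f1).symm).trans ?_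
  rw [← ENat.natCast_toNat f2, ← ENat.natCast_toNat f3, ← Nat.cast_add, ← Nat.cast_add, Nat.cast_inj]
  refine Int.ofNat.inj ?_
  show ((Module.length R _).toNat : ℤ) = ((_ + _ + _ : ℕ) : ℤ)
  push_cast
  rw [e1, e2, e3, Int.toNat_of_nonneg (mul_nonneg (Int.natCast_nonneg n) (neg_nonneg.2 hneg))]
  have g1 := hχ (n + 1)
  have g2 := hχ n
  have g3 := hχ 1
  push_cast at g1 g2 g3
  nlinarith

/-- Two sections without common zero on the divisor. -/
theorem exists_sections [Infinite (IsLocalRing.ResidueField R)] (hX : ArSurf.IsArithSurface R X)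
    (hΓ : Function.Injective fun i => Set.range ((Γ i).ι.base : (Γ i).curve.left → X.left))
    (hL : ∀ j, ClSub.IsInverseOf (L j) (ClSub.idealMod (Γ j).ι.ker)) (hH : NoH1 Γ) (hP : NoPic0 Γ)
    (hz : ∀ i, z i ≠ 0) (hanti : ∀ i, ∑ j, (z j : ℤ) * ArSurf.inter R X (L j) (Γ i) ≤ 0)
    (hne : (⋃ i, Set.range (Γ i).ι.base).Nonempty) :
    ∃ θ₁ θ₂ : Coh.structureModule (divIdeal Γ z).subscheme ⟶
        (Scheme.Modules.pullback (divIdeal Γ z).subschemeι).obj (ClSub.idealMod (divIdeal Γ z)),
      ∀ w, w ∈ CohB1.genLocus _ θ₁ ∨ w ∈ CohB1.genLocus _ θ₂ := by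
  classical
  obtain ⟨ω, hω⟩ := CanonFac.exists_canonical hX
  have hV := CastLib.VSurf.of_arith hX
  haveI := (SurfPtBlow.arSurf_facts hX).1
  haveI := (SurfPtBlow.arSurf_facts hX).2
  haveI := hX.2.1
  let D := divIdeal Γ z
  obtain ⟨hnoe, -, hinv, -⟩ := CanonFac.divIdeal_facts hX Γ z
  haveI := hnoe
  have hz0 : z ≠ 0 := fun h => by
    obtain ⟨x, hx⟩ := hne
    obtain ⟨i, -⟩ := Set.mem_iUnion.1 hx
    exact hz i (congrFun h i)
  have hD : BlowUp.IsEffCartierIdeal D := (S8914.result _).1 hinv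
  let N := (Scheme.Modules.pullback D.subschemeι).obj (ClSub.idealMod D)
  have hN : PicF.IsInvertible N := isInvertible_pullback _ hinv
  have hcomp : ∀ (E : ArSurf.VertComp R X) (g : E.curve.left ⟶ D.subscheme), g ≫ D.subschemeι = E.ι →
      ∃ i, Set.range E.ι.base = Set.range (Γ i).ι.base := fun E g hg => by
    haveI := E.isIntegral
    obtain ⟨i, -, c, hc⟩ := mem_support_divIdeal Γ z
      ((D.range_subschemeι).le ⟨g (genericPoint E.curve.left), rfl⟩)
    refine ⟨i, ?_⟩
    have hgen : (Γ i).ι c = Models.genPtOf R X E := hc.trans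
      ((Scheme.Hom.comp_apply g D.subschemeι (genericPoint E.curve.left)).symm.trans
        (congrArg (fun φ => φ (genericPoint E.curve.left)) hg))
    show Set.range E.ι = Set.range (Γ i).ι
    rw [CastLib.range_vertComp, CastLib.range_vertComp]
    by_contra hcl
    have hsp : Models.genPtOf R X (Γ i) ⤳ Models.genPtOf R X E :=
      hgen ▸ (genericPoint_specializes c).map (Γ i).ι.continuous
    have h3 := S8909.succ_le hsp (fun h => hcl (by rw [h]))
    rw [hV.coheight_genPtOf, hV.coheight_genPtOf] at h3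
    exact absurd h3 (by decide)
  have hgg : Curv2.IsGloballyGenerated N := by
    refine (CanonFac.vanish_and_generated hX hω Γ hΓ hL z (hH z hz0) (fun M hM h0 => ?_) hcomp N hN
      fun i g hg => ?_).2
    · refine hP D.subscheme D.subschemeι (by rw [Scheme.IdealSheafData.ker_subschemeι]; exact hD)
        (CanonFac.nonempty_divIdeal Γ hz0) ?_ M hM fun i g hg => h0 (Γ i) g hg
      rintro _ ⟨w, rfl⟩
      obtain ⟨i, -, hi⟩ := mem_support_divIdeal Γ z ((D.range_subschemeι).le ⟨w, rfl⟩)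
      exact Set.mem_iUnion.2 ⟨i, hi⟩
    · haveI := CastLib.isProper_vertComp (Γ i)
      refine le_of_le_of_eq ?_ (CastLib.curveDeg_iso (k := IsLocalRing.ResidueField R) (CastLib.dim_vertComp (Γ i))
        ((Scheme.Modules.pullbackComp g D.subschemeι).app (ClSub.idealMod D) ≪≫
          (Scheme.Modules.pullbackCongr hg).app (ClSub.idealMod D))).symm
      show 0 ≤ ArSurf.inter R X (ClSub.idealMod D) (Γ i)
      rw [CanonFac.inter_idealMod hX Γ hL]
      exact neg_nonneg.2 (hanti i)
  let γ : R →+* Γ(D.subscheme, ⊤) := Coh.toGlobal (D.subschemeι ≫ X.hom)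
  have hmem : ∀ i, Models.genPtOf R X (Γ i) ∈ Set.range D.subschemeι := fun i => by
    rw [D.range_subschemeι]
    refine Scheme.IdealSheafData.support_antitone (show D ≤ (Γ i).ι.ker by
      show (∏ j, (Γ j).ι.ker ^ z j) ≤ _
      rw [← Finset.mul_prod_erase _ _ (Finset.mem_univ i),
        show z i = (z i - 1) + 1 from (Nat.sub_add_cancel (Nat.pos_of_ne_zero (hz i))).symm, pow_succ', mul_assoc]
      exact TwistShriek.mul_le_left' _ _) ?_
    show Models.genPtOf R X (Γ i) ∈ ((Γ i).ι.ker.support : Set X.left)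
    rw [CastLib.support_ker]
    exact ⟨_, rfl⟩
  choose w hw using hmem
  obtain ⟨θ₁, hθ₁⟩ := exists_section_avoid γ hN hgg (Finset.univ.image w)
  let C : Set X.left := D.subschemeι '' (CohB1.genLocus _ θ₁ : Set D.subscheme)ᶜ
  have hCc : IsClosed C := D.subschemeι.isClosedMap _ (CohB1.genLocus _ θ₁).2.isClosed_compl
  have hCf : C.Finite := by
    refine (Set.finite_iUnion fun i => ?_ : (⋃ i, (Γ i).ι '' ((Γ i).ι ⁻¹' C)).Finite).subset fun x hx => ?_
    · haveI := (Γ i).isIntegral
      haveI := CastLib.isProper_vertComp (Γ i)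
      refine Set.Finite.image _ (CurveFF.finite_of_isClosed (k := IsLocalRing.ResidueField R) (Γ i).dim_eq
        (hCc.preimage (Γ i).ι.continuous) fun hη => ?_)
      obtain ⟨v, hv, hve⟩ := hη
      have hvw : v = w i := D.subschemeι.isClosedEmbedding.injective (hve.trans (hw i).symm)
      exact hv (hvw ▸ hθ₁ _ (Finset.mem_image.2 ⟨i, Finset.mem_univ _, rfl⟩))
    · obtain ⟨v, hv, rfl⟩ := hx
      obtain ⟨i, -, c, hc⟩ := mem_support_divIdeal Γ z ((D.range_subschemeι).le ⟨v, rfl⟩)
      exact Set.mem_iUnion.2 ⟨i, c, show (Γ i).ι c ∈ C from hc ▸ ⟨v, hv, rfl⟩, hc⟩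
  obtain ⟨θ₂, hθ₂⟩ := exists_section_avoid γ hN hgg
    ((hCf.preimage D.subschemeι.isClosedEmbedding.injective.injOn).toFinset)
  exact ⟨θ₁, θ₂, fun v => or_iff_not_imp_left.2 fun hv =>
    hθ₂ v ((Set.Finite.mem_toFinset _).2 ⟨v, hv, rfl⟩)⟩

/-- Trivial `Pic⁰` for the standard divisors gives it for all divisors of the configuration. -/
theorem noPic0_of_divIdeal (hX : ArSurf.IsArithSurface R X)
    (hΓ : Function.Injective fun i => Set.range ((Γ i).ι.base : (Γ i).curve.left → X.left))
    (h : ∀ a : Fin r → ℕ, a ≠ 0 → ∀ N : (divIdeal Γ a).subscheme.Modules, PicF.IsInvertible N →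
      (∀ (i : Fin r) (g : (Γ i).curve.left ⟶ (divIdeal Γ a).subscheme), g ≫ (divIdeal Γ a).subschemeι = (Γ i).ι →
        ArSurf.curveDeg (IsLocalRing.ResidueField R) (Γ i).curve.left ((Scheme.Modules.pullback g).obj N) = 0) →
      Nonempty (N ≅ Coh.structureModule (divIdeal Γ a).subscheme)) : NoPic0 Γ := by
  intro Z zZ _ hz hZne hs N hN h0
  haveI := (SurfPtBlow.arSurf_facts hX).1
  obtain ⟨a, ha⟩ := CanonFac.exists_eq_divIdeal hX Γ hΓ hz (by
    rw [Scheme.Hom.support_ker, IsClosed.closure_eq zZ.isClosedEmbedding.isClosed_range]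
    exact hs)
  have key : ∀ I : X.left.IdealSheafData, I = divIdeal Γ a → Nonempty I.subscheme → ∀ N : I.subscheme.Modules,
      PicF.IsInvertible N →
      (∀ (i : Fin r) (g : (Γ i).curve.left ⟶ I.subscheme), g ≫ I.subschemeι = (Γ i).ι →
        ArSurf.curveDeg (IsLocalRing.ResidueField R) (Γ i).curve.left ((Scheme.Modules.pullback g).obj N) = 0) →
      Nonempty (N ≅ Coh.structureModule I.subscheme) := by
    rintro I rfl ⟨v⟩
    refine h a fun ha0 => ?_
    obtain ⟨i, hi, -⟩ := mem_support_divIdeal Γ a (((divIdeal Γ a).range_subschemeι).le ⟨v, rfl⟩)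
    exact hi (congrFun ha0 i)
  obtain ⟨φ⟩ := key zZ.ker ha (hZne.map fun v => zZ.toImage v)
    ((Scheme.Modules.pullback (inv zZ.toImage)).obj N)
    (isInvertible_pullback _ hN) fun i g hg => by
      haveI := CastLib.isProper_vertComp (Γ i)
      refine (CastLib.curveDeg_iso (k := IsLocalRing.ResidueField R) (CastLib.dim_vertComp (Γ i))
        ((Scheme.Modules.pullbackComp g (inv zZ.toImage)).app N)).trans (h0 i _ ?_)
      rw [Category.assoc, ← hg]
      congr 1
      exact (IsIso.inv_comp_eq _).2 (Scheme.Hom.toImage_imageι zZ).symm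
  exact ⟨((Scheme.Modules.pullbackId Z).app N).symm ≪≫
    (Scheme.Modules.pullbackCongr (IsIso.hom_inv_id zZ.toImage)).symm.app N ≪≫
    ((Scheme.Modules.pullbackComp zZ.toImage (inv zZ.toImage)).app N).symm ≪≫
    (Scheme.Modules.pullback zZ.toImage).mapIso φ ≪≫ AmpleLib.pullO zZ.toImage⟩

/-- **The Hilbert–Samuel function at the image of a rational configuration.** -/
theorem hilbertSamuel {Y : Over (Spec (CommRingCat.of R))} (f : X ⟶ Y) [IsProper f.left]
    [IsLocallyNoetherian Y.left] (S : Setting Γ L z) (hb : RigidLib.BijApp f.left) {y : Y.left}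
    (hy : IsClosed ({y} : Set Y.left)) (hfib : f.left ⁻¹' {y} = ⋃ i, Set.range (Γ i).ι.base)
    (hne : (⋃ i, Set.range (Γ i).ι.base).Nonempty) (hz : ∀ i, z i ≠ 0)
    (hneg : ∀ a : Fin r → ℤ, a ≠ 0 →
      (Finset.univ : Finset (Fin r × Fin r)).sum (fun p => a p.1 * a p.2 * ArSurf.inter R X (L p.2) (Γ p.1)) < 0)
    (hP : NoPic0 Γ) (hF : IsField Γ((divIdeal Γ z).subscheme, ⊤))
    (hθ : ∃ θ₁ θ₂ : Coh.structureModule (divIdeal Γ z).subscheme ⟶
        (Scheme.Modules.pullback (divIdeal Γ z).subschemeι).obj (ClSub.idealMod (divIdeal Γ z)),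
      ∀ w, w ∈ CohB1.genLocus _ θ₁ ∨ w ∈ CohB1.genLocus _ θ₂) :
    letI : X.left.Over (Spec (CommRingCat.of R)) := ⟨X.hom⟩
    ((letI : Algebra R (Y.left.residueField y) := ((Y.left.residue y).hom.comp (Models.stalkHom R Y y)).toAlgebra;
      Module.length R (Y.left.residueField y)) =
        Module.length R (Coh.HH X.left (ClSub.quotMod (divIdeal Γ z)) 0)) ∧
    ∀ n : ℕ,
      (letI : Algebra R (Y.left.presheaf.stalk y) := (Models.stalkHom R Y y).toAlgebra;
       letI : Algebra R (Y.left.residueField y) := ((Y.left.residue y).hom.comp (Models.stalkHom R Y y)).toAlgebra;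
        Module.length R (Y.left.presheaf.stalk y ⧸ IsLocalRing.maximalIdeal (Y.left.presheaf.stalk y) ^ (n + 1)) =
          Module.length R (Y.left.presheaf.stalk y ⧸ IsLocalRing.maximalIdeal (Y.left.presheaf.stalk y) ^ n) +
            ((n : ℤ) * -selfInt Γ L z).toNat + Module.length R (Y.left.residueField y)) := by
  classical
  letI : X.left.Over (Spec (CommRingCat.of R)) := ⟨X.hom⟩
  obtain ⟨U₀, hyU₀, hU₀⟩ := exists_goodNhd f S.arith S.inj S.inv hneg hP hfib hne
  obtain ⟨θ₁, θ₂, hθ'⟩ := hθ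
  obtain ⟨U, hyU, hU, hpair⟩ := S.exists_pair f hU₀ hyU₀ hfib hz θ₁ θ₂ hθ'
  have key := S.length_stalk_quot f hb hy hU hyU hfib hz hne hF hpair
  have hκ : (letI : Algebra R (Y.left.residueField y) := ((Y.left.residue y).hom.comp (Models.stalkHom R Y y)).toAlgebra;
      Module.length R (Y.left.residueField y)) =
      Module.length R (Coh.HH X.left (ClSub.quotMod (divIdeal Γ z ^ 1)) 0) :=
    (length_residueField Y y).trans (key 1)
  have hz0 : (fun i => (z i : ℤ)) ≠ 0 := fun h => by
    obtain ⟨x, hx⟩ := hne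
    obtain ⟨i, -⟩ := Set.mem_iUnion.1 hx
    exact hz i (Int.natCast_eq_zero.1 (congrFun h i))
  refine ⟨hκ.trans (by rw [pow_one]), fun n => ?_⟩
  rw [key (n + 1), key n, hκ]
  exact length_H0_step S.arith S.inj S.inv S.noH1 (fun h => hz0 (funext fun i => by simp [congrFun h i]))
    (hneg _ hz0).le n

end Groth.Agent.RatSingLib
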