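import Groth.Agent.RatSingLib.Local

/-!
# Lengths at the image of a rational configuration
-/

set_option autoImplicit false
set_option backward.isDefEq.respectTransparency false
set_option backward.isDefEq.respectTransparency.types false
set_option linter.style.haveILetI false
set_option linter.unusedSectionVars false
set_option maxHeartbeats 1000000

universe u

open CategoryTheory CategoryTheory.Limits AlgebraicGeometry TopologicalSpace
open Groth.Agent.AmpleLib
open Groth.Agent.CanonFac (divIdeal)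
open Groth.Agent.CastLib (toOpen germ_toOpen)

noncomputable section

namespace Groth.Agent.RatSingLib

variable {R : Type u} [CommRing R] [IsDomain R] [IsDiscreteValuationRing R]
variable {X : Over (Spec (CommRingCat.of R))} {r : ℕ} {Γ : Fin r → ArSurf.VertComp R X}
variable {Y : Over (Spec (CommRingCat.of R))} (f : X ⟶ Y) {U : Y.left.Opens}
variable {L : Fin r → X.left.Modules} {z : Fin r → ℕ}

/-- Functions on an open set of the target seen on its preimage. -/
def funEquiv (hb : RigidLib.BijApp f.left) (U : Y.left.Opens) : Γ(Y.left, U) ≃+* Γ((f.left ⁻¹ᵁ U).toScheme, ⊤) :=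
  (RingEquiv.ofBijective (f.left.app U).hom (hb U)).trans (f.left ⁻¹ᵁ U).topIso.symm.commRingCatIsoToRingEquiv

theorem funEquiv_apply (hb : RigidLib.BijApp f.left) (U : Y.left.Opens) (c : Γ(Y.left, U)) :
    funEquiv f hb U c = toOpen (f.left ⁻¹ᵁ U) (f.left.app U c) := rfl

theorem toOpen_res (W : X.left.Opens) (s : Γ(X.left, ⊤)) :
    toOpen W (X.left.presheaf.map (homOfLE le_top).op s) = W.ι.appTop s := by
  have h : X.left.presheaf.map (homOfLE le_top).op ≫ W.topIso.inv = W.ι.appTop := by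
    simp [Scheme.Opens.topIso, ← Functor.map_comp]
  exact ConcreteCategory.congr_hom h s

theorem funEquiv_toGlobal (hb : RigidLib.BijApp f.left) (U : Y.left.Opens) (a : R) :
    funEquiv f hb U (Y.left.presheaf.map (homOfLE le_top).op (Coh.toGlobal Y.hom a)) =
      Coh.toGlobal ((f.left ⁻¹ᵁ U).ι ≫ X.hom) a := by
  rw [funEquiv_apply]
  have h1 : f.left.app U (Y.left.presheaf.map (homOfLE (le_top : U ≤ ⊤)).op (Coh.toGlobal Y.hom a)) =
      X.left.presheaf.map (homOfLE (le_top : f.left ⁻¹ᵁ U ≤ ⊤)).op (f.left.appTop (Coh.toGlobal Y.hom a)) :=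
    ConcreteCategory.congr_hom (f.left.naturality (homOfLE (le_top : U ≤ ⊤)).op) _
  rw [h1, toOpen_res]
  have h2 : f.left.appTop (Coh.toGlobal Y.hom a) = Coh.toGlobal X.hom a := by
    rw [← Over.w f]
    rfl
  rw [h2]
  rfl

variable {y : Y.left}

/-- A function vanishes at the point iff it lies in the ideal of the divisor. -/
theorem mem_secIdeal_funEquiv_iff (hb : RigidLib.BijApp f.left) (hyU : y ∈ U)
    (hfib : f.left ⁻¹' {y} = ⋃ i, Set.range (Γ i).ι.base) (hz : ∀ i, z i ≠ 0)
    (hne : (⋃ i, Set.range (Γ i).ι.base).Nonempty) (hF : IsField Γ((divIdeal Γ z).subscheme, ⊤)) (c : Γ(Y.left, U)) :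
    funEquiv f hb U c ∈ secIdeal ((divIdeal Γ z).comap (f.left ⁻¹ᵁ U).ι) ↔ y ∉ Y.left.basicOpen c := by
  let W := f.left ⁻¹ᵁ U
  let D := divIdeal Γ z
  have hΔ : ∀ i, Set.range (Γ i).ι ⊆ W := fun i x hx => by
    have h : f.left x = y := hfib.ge (Set.mem_iUnion.2 ⟨i, hx⟩)
    show f.left x ∈ U
    rw [h]; exact hyU
  obtain ⟨j, hj, hjc, hker⟩ := exists_sub (W := W) (support_le_of_subset f z hΔ)
  haveI := hjc
  have hjy : ∀ w, f.left (D.subschemeι w) = y := fun w => by
    obtain ⟨i, -, hi⟩ := mem_support_divIdeal Γ z ((D.range_subschemeι).le ⟨w, rfl⟩)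
    exact hfib.ge (Set.mem_iUnion.2 ⟨i, hi⟩)
  have hbo : ∀ w, (W.toScheme.presheaf.germ ⊤ w trivial).hom (funEquiv f hb U c) =
      (W.ι.stalkMap w).hom ((f.left.stalkMap (W.ι w)).hom ((Y.left.presheaf.germ U _ w.2).hom c)) := fun w => by
    rw [funEquiv_apply, ← germ_toOpen]
    exact congrArg (W.ι.stalkMap w).hom (Scheme.Hom.germ_stalkMap_apply f.left U (W.ι w) w.2 c).symm
  have hunit : ∀ w, IsUnit ((W.toScheme.presheaf.germ ⊤ w trivial).hom (funEquiv f hb U c)) ↔
      f.left (W.ι w) ∈ Y.left.basicOpen c := fun w => by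
    rw [hbo, isUnit_map_iff, isUnit_map_iff]
    exact (Y.left.mem_basicOpen c _ w.2).symm
  constructor
  · intro h hy
    obtain ⟨x, hx⟩ := hne
    obtain ⟨i, hi⟩ := Set.mem_iUnion.1 hx
    have hxD : x ∈ D.support := Scheme.IdealSheafData.support_antitone (show D ≤ (Γ i).ι.ker by
      show (∏ j, (Γ j).ι.ker ^ z j) ≤ _
      rw [← Finset.mul_prod_erase _ _ (Finset.mem_univ i),
        show z i = (z i - 1) + 1 from (Nat.sub_add_cancel (Nat.pos_of_ne_zero (hz i))).symm, pow_succ', mul_assoc]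
      exact TwistShriek.mul_le_left' _ _) (show x ∈ ((Γ i).ι.ker.support : Set X.left) by
      rw [CastLib.support_ker]; exact hi)
    obtain ⟨w, rfl⟩ := (D.range_subschemeι).ge hxD
    have h1 := h (j w)
    rw [hker, CastLib.stalkIdeal_kerJ, RingHom.mem_ker] at h1
    have h2 : IsUnit ((W.toScheme.presheaf.germ ⊤ (j w) trivial).hom (funEquiv f hb U c)) := by
      rw [hunit]
      rw [← Scheme.Hom.comp_apply j W.ι, hj, hjy]
      exact hy
    exact not_isUnit_zero (h1 ▸ h2.map (j.stalkMap w).hom)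
  · intro hy w
    by_cases hw : w ∈ Set.range j
    · obtain ⟨v, rfl⟩ := hw
      rw [hker, CastLib.stalkIdeal_kerJ, RingHom.mem_ker, Scheme.Hom.germ_stalkMap_apply]
      suffices hd : j.appTop (funEquiv f hb U c) = 0 by
        refine Eq.trans ?_ (map_zero ((D.subscheme.presheaf.germ ⊤ v trivial).hom))
        rw [← hd]
        rfl
      by_contra hd
      obtain ⟨d', hd'⟩ := hF.mul_inv_cancel hd
      have h3 : IsUnit ((j.stalkMap v).hom ((W.toScheme.presheaf.germ ⊤ (j v) trivial).hom (funEquiv f hb U c))) := by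
        rw [Scheme.Hom.germ_stalkMap_apply]
        exact (IsUnit.of_mul_eq_one d' hd').map (D.subscheme.presheaf.germ ⊤ v trivial).hom
      rw [isUnit_map_iff, hunit, ← Scheme.Hom.comp_apply j W.ι, hj, hjy] at h3
      exact hy h3
    · rw [hker, IdealMulLib.stalkIdeal_eq_top _ (fun h => hw ?_)]
      · trivial
      · rwa [← SetLike.mem_coe, Scheme.Hom.support_ker, j.isClosedEmbedding.isClosed_range.closure_eq] at h

/-- **The lengths of the infinitesimal neighbourhoods of the point.** -/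
theorem Setting.length_stalk_quot (S : Setting Γ L z) [IsProper f.left] [IsLocallyNoetherian Y.left]
    (hb : RigidLib.BijApp f.left) (hy : IsClosed ({y} : Set Y.left)) (hU : IsGoodNhd f Γ U) (hyU : y ∈ U)
    (hfib : f.left ⁻¹' {y} = ⋃ i, Set.range (Γ i).ι.base) (hz : ∀ i, z i ≠ 0)
    (hne : (⋃ i, Set.range (Γ i).ι.base).Nonempty) (hF : IsField Γ((divIdeal Γ z).subscheme, ⊤))
    (hpair : HasPair Γ z (f.left ⁻¹ᵁ U)) (n : ℕ) :
    letI : Algebra R (Y.left.presheaf.stalk y) := (Models.stalkHom R Y y).toAlgebra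
    letI : X.left.Over (Spec (CommRingCat.of R)) := ⟨X.hom⟩
    Module.length R (Y.left.presheaf.stalk y ⧸ IsLocalRing.maximalIdeal (Y.left.presheaf.stalk y) ^ n) =
      Module.length R (Coh.HH X.left (ClSub.quotMod (divIdeal Γ z ^ n)) 0) := by
  classical
  letI : X.left.Over (Spec (CommRingCat.of R)) := ⟨X.hom⟩
  haveI := (SurfPtBlow.arSurf_facts S.arith).1
  haveI := (SurfPtBlow.arSurf_facts S.arith).2
  haveI := S.arith.2.1
  let W := f.left ⁻¹ᵁ U
  have hΔ : ∀ i, Set.range (Γ i).ι ⊆ W := fun i x hx => by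
    have h : f.left x = y := hfib.ge (Set.mem_iUnion.2 ⟨i, hx⟩)
    show f.left x ∈ U
    rw [h]; exact hyU
  letI : W.toScheme.Over (Spec (CommRingCat.of R)) := ⟨W.ι ≫ X.hom⟩
  haveI : Nonempty W.toScheme := by
    obtain ⟨x, hx⟩ := hne
    obtain ⟨i, hi⟩ := Set.mem_iUnion.1 hx
    exact ⟨⟨x, hΔ i hi⟩⟩
  haveI : IsIntegral W.toScheme := inferInstance
  let I := (divIdeal Γ z).comap W.ι
  obtain ⟨a, b, hab⟩ := hpair
  obtain ⟨-, -, hinv, -⟩ := CanonFac.divIdeal_facts S.arith Γ z
  have hI : BlowUp.IsEffCartierIdeal I :=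
    BlowCompLib.isEffCartier_comap_openImmersion ((S8914.result _).1 hinv) W.ι
  have h1 := fun m => S.subsingleton_pow f hU hΔ m
  have hpow := secIdeal_pow I hI h1 (a := toOpen W a) (b := toOpen W b)
    (fun x => (CastLib.stalkIdeal_of_comap (divIdeal Γ z) a b x).1 (hab _ x.2))
  -- algebras
  let g : R →+* Γ(Y.left, U) := (Y.left.presheaf.map (homOfLE le_top).op).hom.comp (Coh.toGlobal Y.hom)
  letI : Algebra R Γ(Y.left, U) := g.toAlgebra
  letI : Algebra R Γ(W.toScheme, ⊤) := (Coh.toGlobal (W.ι ≫ X.hom)).toAlgebra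
  letI : Algebra R (Y.left.presheaf.stalk y) := (Models.stalkHom R Y y).toAlgebra
  letI : Algebra Γ(Y.left, U) (Y.left.presheaf.stalk y) := TopCat.Presheaf.algebra_section_stalk Y.left.presheaf ⟨y, hyU⟩
  haveI : IsScalarTower R Γ(Y.left, U) (Y.left.presheaf.stalk y) := IsScalarTower.of_algebraMap_eq fun s => by
    show (Y.left.presheaf.germ ⊤ y trivial).hom (Coh.toGlobal Y.hom s) =
      (Y.left.presheaf.germ U y hyU).hom ((Y.left.presheaf.map (homOfLE le_top).op).hom (Coh.toGlobal Y.hom s))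
    rw [TopCat.Presheaf.germ_res_apply]
  haveI := hU.1.isLocalization_stalk ⟨y, hyU⟩
  let P := (hU.1.primeIdealOf ⟨y, hyU⟩).asIdeal
  haveI hPmax : P.IsMaximal := hU.1.primeIdealOf_isMaximal_of_isClosed ⟨y, hyU⟩ hy
  let e : Γ(Y.left, U) ≃ₐ[R] Γ(W.toScheme, ⊤) :=
    AlgEquiv.ofRingEquiv (f := funEquiv f hb U) (fun s => funEquiv_toGlobal f hb U s)
  have hPI : P.map (funEquiv f hb U).toRingHom = secIdeal I := by
    refine le_antisymm (Ideal.map_le_iff_le_comap.2 fun c hc => ?_) fun d hd => ?_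
    · refine (mem_secIdeal_funEquiv_iff f hb hyU hfib hz hne hF c).2 fun h => ?_
      rw [Y.left.mem_basicOpen c y hyU] at h
      exact (IsLocalization.AtPrime.isUnit_to_map_iff (Y.left.presheaf.stalk y) P c).1 h hc
    · obtain ⟨c, rfl⟩ := (funEquiv f hb U).surjective d
      refine Ideal.mem_map_of_mem (funEquiv f hb U).toRingHom (by_contra fun hc => ?_)
      refine (mem_secIdeal_funEquiv_iff f hb hyU hfib hz hne hF c).1 hd ?_
      rw [Y.left.mem_basicOpen c y hyU]
      exact (IsLocalization.AtPrime.isUnit_to_map_iff (Y.left.presheaf.stalk y) P c).2 hc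
  let q : (Γ(Y.left, U) ⧸ P ^ n) ≃ₐ[R] (Γ(W.toScheme, ⊤) ⧸ secIdeal (I ^ n)) :=
    Ideal.quotientEquivAlg _ _ e (by rw [hpow n, ← hPI, ← Ideal.map_pow]; rfl)
  let q' : (Γ(Y.left, U) ⧸ P ^ n) ≃ₐ[R] (Y.left.presheaf.stalk y ⧸
      IsLocalRing.maximalIdeal (Y.left.presheaf.stalk y) ^ n) :=
    (IsLocalization.AtPrime.equivQuotMaximalIdealPow P (Y.left.presheaf.stalk y) n).restrictScalars R
  rw [← q'.toLinearEquiv.length_eq, q.toLinearEquiv.length_eq]
  refine (length_quot_secIdeal (R := R) (I ^ n) (h1 n)).trans ?_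
  show Module.length R (Coh.HH W.toScheme (ClSub.quotMod (((divIdeal Γ z).comap W.ι) ^ n)) 0) = _
  rw [← S19878.comap_pow']
  exact length_quotMod_comap (R := R) (by rw [divIdeal_smul]; exact support_le_of_subset f _ hΔ)

/-- The residue field is the quotient of order one. -/
theorem length_residueField (Y : Over (Spec (CommRingCat.of R))) (y : Y.left) :
    (letI : Algebra R (Y.left.residueField y) := ((Y.left.residue y).hom.comp (Models.stalkHom R Y y)).toAlgebra
     Module.length R (Y.left.residueField y)) =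
      (letI : Algebra R (Y.left.presheaf.stalk y) := (Models.stalkHom R Y y).toAlgebra
       Module.length R (Y.left.presheaf.stalk y ⧸ IsLocalRing.maximalIdeal (Y.left.presheaf.stalk y) ^ 1)) := by
  letI : Algebra R (Y.left.presheaf.stalk y) := (Models.stalkHom R Y y).toAlgebra
  letI : Algebra R (Y.left.residueField y) := ((Y.left.residue y).hom.comp (Models.stalkHom R Y y)).toAlgebra
  let φ : Y.left.presheaf.stalk y →ₗ[R] Y.left.residueField y :=
    { toFun := fun s => (Y.left.residue y).hom s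
      map_add' := map_add _
      map_smul' := fun a s => by rw [Algebra.smul_def, map_mul, RingHom.id_apply, Algebra.smul_def]; rfl }
  have hφ : Function.Surjective φ := Y.left.residue_surjective y
  have hker : LinearMap.ker φ = (IsLocalRing.maximalIdeal (Y.left.presheaf.stalk y) ^ 1).restrictScalars R := by
    ext s
    rw [LinearMap.mem_ker, Submodule.restrictScalars_mem, pow_one]
    exact Ideal.Quotient.eq_zero_iff_mem
  exact ((Submodule.Quotient.restrictScalarsEquiv R _).symm ≪≫ₗ (Submodule.quotEquivOfEq _ _ hker.symm) ≪≫ₗ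
    (LinearMap.quotKerEquivOfSurjective φ hφ)).length_eq.symm

end Groth.Agent.RatSingLib
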