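import Groth.Agent.RatSingLib.Configs
import Groth.Agent.CanonFacLib.TwistP1
import Groth.Agent.CastLib.ExcCriterion

/-!
# Contraction of a line of negative self-intersection
-/

set_option autoImplicit false
set_option backward.isDefEq.respectTransparency false
set_option backward.isDefEq.respectTransparency.types false
set_option linter.style.haveILetI false
set_option linter.unusedSectionVars false
set_option maxHeartbeats 1000000

universe u

open CategoryTheory CategoryTheory.Limits AlgebraicGeometry TopologicalSpace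
open Groth.Agent.AmpleLib Groth.Agent.CastLib Groth.Agent.SurfPtBlow
open Groth.Agent.CanonFac (divIdeal)

noncomputable section

namespace Groth.Agent.RatSingLib

variable {R : Type u} [CommRing R] [IsDomain R] [IsDiscreteValuationRing R]
variable {X : Over (Spec (CommRingCat.of R))}


variable (E : ArSurf.VertComp R X) {k' : Type u} [Field k'] [Algebra (IsLocalRing.ResidueField R) k'] (e : E.curve.left ≅ CohB1.ProjSpace 1 k')
  (he : e.hom ≫ (CohB1.ProjSpace 1 k' ↘ Spec (CommRingCat.of k')) ≫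
    Spec.map (CommRingCat.ofHom (algebraMap (IsLocalRing.ResidueField R) k')) = E.curve.hom)

include he in
/-- The Euler characteristic of a line over an extension field. -/
theorem euler_line :
    FGA.eulerCharLE (IsLocalRing.ResidueField R) E.curve.left (Coh.structureModule E.curve.left) 1 = (Module.finrank (IsLocalRing.ResidueField R) k' : ℤ) := by
  haveI := SurfPtBlow.isProper_P1 (k := k')
  letI ov : (CohB1.ProjSpace 1 k').Over (Spec (CommRingCat.of (IsLocalRing.ResidueField R))) :=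
    ⟨(CohB1.ProjSpace 1 k' ↘ Spec (CommRingCat.of k')) ≫ Spec.map (CommRingCat.ofHom (algebraMap (IsLocalRing.ResidueField R) k'))⟩
  have hg : e.inv ≫ (E.curve.left ↘ Spec (CommRingCat.of (IsLocalRing.ResidueField R))) = CohB1.ProjSpace 1 k' ↘ Spec (CommRingCat.of (IsLocalRing.ResidueField R)) := by
    rw [show (E.curve.left ↘ Spec (CommRingCat.of (IsLocalRing.ResidueField R))) = E.curve.hom from rfl, ← he, Iso.inv_hom_id_assoc]
    rfl
  haveI := EulerIneqLib.isNoetherian_proper (X := CohB1.ProjSpace 1 k') k'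
  haveI : IsLocallyNoetherian E.curve.left := LocallyOfFiniteType.isLocallyNoetherian e.hom
  haveI : Coh.IsQCoh (Coh.structureModule E.curve.left) :=
    (CurveLib.isCoh_of_isInvertible ParaFLib.isInvertible_structureModule).1
  have hk : ∀ i, (Module.finrank (IsLocalRing.ResidueField R) (Coh.HH E.curve.left (Coh.structureModule E.curve.left) i) : ℤ) =
      Module.finrank (IsLocalRing.ResidueField R) k' *
        Module.finrank k' (Coh.HH (CohB1.ProjSpace 1 k') (Coh.structureModule (CohB1.ProjSpace 1 k')) i) :=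
    fun i => by
      rw [← CurveP1Lib.finrank_HH_pullback (k := (IsLocalRing.ResidueField R)) e.inv hg _ i,
        CastLib.finrank_restrict (k := (IsLocalRing.ResidueField R)) (k' := k') _ rfl _ i, ShBCLib.finrank_HH_iso (K := k') (pullO e.inv) i]
      push_cast
      rfl
  obtain ⟨h0, h1⟩ := CastLib.finrank_HH_P1 k'
  simp only [FGA.eulerCharLE, Finset.sum_range_succ, Finset.sum_range_zero, zero_add, pow_zero, pow_one, one_mul, hk,
    h0, h1]
  simp

include he in
/-- Two sections without common zero of the conormal sheaf of the line. -/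
theorem exists_sections_line [FiniteDimensional (IsLocalRing.ResidueField R) k'] (hX : ArSurf.IsArithSurface R X) {L : X.left.Modules}
    (hL : ClSub.IsInverseOf L (ClSub.idealMod E.ι.ker)) {d : ℕ} (hd : 1 ≤ d)
    (hself : ArSurf.inter R X L E = -((d : ℤ) * (Module.finrank (IsLocalRing.ResidueField R) k' : ℤ)))
    (I : X.left.IdealSheafData) (hI : I = E.ι.ker) :
    ∃ θ₁ θ₂ : Coh.structureModule I.subscheme ⟶ (Scheme.Modules.pullback I.subschemeι).obj (ClSub.idealMod I),
      ∀ w, w ∈ CohB1.genLocus _ θ₁ ∨ w ∈ CohB1.genLocus _ θ₂ := by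
  subst hI
  haveI := (SurfPtBlow.arSurf_facts hX).1
  haveI := (SurfPtBlow.arSurf_facts hX).2
  haveI := E.isClosedImmersion
  have hC := CastLib.isEffCartier_vertComp hX E
  have hIi : PicF.IsInvertible (ClSub.idealMod E.ι.ker) := (S8914.result _).2 hC
  have hLi := CastLib.isInvertible_inverse_ideal hL
  let j : CohB1.ProjSpace 1 k' ⟶ X.left := e.inv ≫ E.ι
  have hn : (0 : ℤ) < Module.finrank (IsLocalRing.ResidueField R) k' := by exact_mod_cast Module.finrank_pos
  have hdI : SurfPtBlow.degOn j (ClSub.idealMod E.ι.ker) = d := by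
    have h1 : SurfPtBlow.degOn j L + SurfPtBlow.degOn j (ClSub.idealMod E.ι.ker) = 0 := by
      obtain ⟨eL⟩ := hL
      rw [← CastLib.degOn_tensor j hLi hIi, CastLib.degOn_congr j eL, CastLib.degOn_one]
    rw [CanonFac.inter_eq_degOn E e he hLi] at hself
    have h2 : SurfPtBlow.degOn j L = -(d : ℤ) := mul_left_cancel₀ hn.ne' (hself.trans (by ring))
    omega
  let O1 := Twist.twistProjSpace 1 k' 1
  have hO1 : PicF.IsInvertible O1 := AmpleEmb.isInvertible_twistOne 1 k'
  have hO1d : SurfPtBlow.degP k' (CohB1.tensorPow O1 d) = d := by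
    have h := CastLib.degOn_tensorPow (𝟙 (CohB1.ProjSpace 1 k')) hO1 d
    have h' : ∀ M : (CohB1.ProjSpace 1 k').Modules, SurfPtBlow.degOn (𝟙 _) M = SurfPtBlow.degP k' M := fun M =>
      SurfPtBlow.degP_congr (IntLib.mk_congr ((Scheme.Modules.pullbackId _).app M))
    rw [h', h'] at h
    rw [h, show SurfPtBlow.degP k' O1 = 1 by exact_mod_cast CastLib.degP_twist_nat (k := k') 1, mul_one]
  obtain ⟨a⟩ := CastLib.nonempty_iso_twist_degP (isInvertible_tensorPow hO1 d) hO1d
  obtain ⟨b⟩ := CastLib.nonempty_iso_twist_degP (isInvertible_pullback j hIi)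
    (show SurfPtBlow.degP k' ((Scheme.Modules.pullback j).obj (ClSub.idealMod E.ι.ker)) = (d : ℤ) from hdI)
  let p : E.ι.ker.subscheme ⟶ CohB1.ProjSpace 1 k' := inv E.ι.toImage ≫ e.hom
  have hp : p ≫ j = E.ι.ker.subschemeι := by
    simp only [p, j, Category.assoc, Iso.hom_inv_id_assoc]
    exact (IsIso.inv_comp_eq _).2 (Scheme.Hom.toImage_imageι E.ι).symm
  let φ : (Scheme.Modules.pullback p).obj (CohB1.tensorPow O1 d) ≅
      (Scheme.Modules.pullback E.ι.ker.subschemeι).obj (ClSub.idealMod E.ι.ker) :=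
    (Scheme.Modules.pullback p).mapIso (a ≪≫ b.symm) ≪≫ (Scheme.Modules.pullbackComp p j).app _ ≪≫
      (Scheme.Modules.pullbackCongr hp).app _
  let s : Fin 2 → (Coh.structureModule (CohB1.ProjSpace 1 k') ⟶ CohB1.tensorPow O1 d) :=
    fun i => AmpleLib.powS (AmpleEmb.coordSec 1 k' i) d
  have hs : ∀ i, CohB1.genLocus _ (s i) = AmpleEmb.stdOpen 1 k' i := fun i => by
    obtain ⟨d', rfl⟩ : ∃ d', d = d' + 1 := ⟨d - 1, by omega⟩
    rw [AmpleLib.genLocus_powS hO1, AmpleEmb.genLocus_coordSec]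
  refine ⟨pullS p (s 0) ≫ φ.hom, pullS p (s 1) ≫ φ.hom, fun w => ?_⟩
  obtain ⟨i, hi⟩ := Opens.mem_iSup.1 ((AmpleEmb.iSup_stdOpen 1 k').ge (Opens.mem_top (p w)))
  have h : w ∈ CohB1.genLocus _ (pullS p (s i) ≫ φ.hom) := by
    rw [genLocus_comp_iso, genLocus_pullS p (isInvertible_tensorPow hO1 d), hs]
    exact hi
  fin_cases i
  · exact Or.inl h
  · exact Or.inr h

include he in
/-- **Contraction of a line with negative self-intersection.** -/
theorem exists_contraction_line [FiniteDimensional (IsLocalRing.ResidueField R) k'] (hX : ArSurf.IsArithSurface R X) (L : X.left.Modules)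
    (hL : ClSub.IsInverseOf L (ClSub.idealMod E.ι.ker)) (d : ℕ) (hd : 1 ≤ d)
    (hself : ArSurf.inter R X L E = -((d : ℤ) * (Module.finrank (IsLocalRing.ResidueField R) k' : ℤ))) :
    ∃ (Y : Over (Spec (CommRingCat.of R))) (f : X ⟶ Y) (y : Y.left) (hy : IsClosed ({y} : Set Y.left)),
      IsIntegral Y.left ∧ (∀ q : Y.left, IsIntegrallyClosed (Y.left.presheaf.stalk q)) ∧
      topologicalKrullDim Y.left = 2 ∧ Flat Y.hom ∧ Neron.IsProjectiveOver R Y ∧
      Set.range ((E.ι ≫ f.left).base : E.curve.left → Y.left) = {y} ∧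
      (f.left ⁻¹ᵁ (⟨{y}ᶜ, hy.isOpen_compl⟩ : Y.left.Opens) : Set X.left) = (Set.range E.ι.base)ᶜ ∧
      IsIso (f.left ∣_ (⟨{y}ᶜ, hy.isOpen_compl⟩ : Y.left.Opens)) ∧
      Module.finrank (IsLocalRing.ResidueField (Y.left.presheaf.stalk y))
        (IsLocalRing.CotangentSpace (Y.left.presheaf.stalk y)) = d + 1 := by
  classical
  haveI := hX.2.1
  haveI : IsProper X.hom := (SurfPtBlow.arSurf_facts hX).1
  obtain ⟨ω, hω⟩ := CanonFac.exists_canonical hX
  let n : ℤ := (Module.finrank (IsLocalRing.ResidueField R) k' : ℤ)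
  have hn : (0 : ℤ) < n := Int.ofNat_lt.2 Module.finrank_pos
  have hdn : (0 : ℤ) < (d : ℤ) * n := mul_pos (by exact_mod_cast hd) hn
  have hK : ArSurf.inter R X ω E = (d : ℤ) * n - 2 * n := by
    have h := CanonFac.inter_add_inter_eq hX hω E hL
    rw [euler_line E e he, hself] at h
    linarith
  let Γ : Fin 1 → ArSurf.VertComp R X := fun _ => E
  let L' : Fin 1 → X.left.Modules := fun _ => L
  have hΓ : Function.Injective fun i => Set.range ((Γ i).ι.base : (Γ i).curve.left → X.left) :=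
    fun a b _ => Subsingleton.elim a b
  have hL' : ∀ j, ClSub.IsInverseOf (L' j) (ClSub.idealMod (Γ j).ι.ker) := fun _ => hL
  have hU : (⋃ i, Set.range (Γ i).ι.base) = Set.range E.ι.base := Set.iUnion_const (Set.range E.ι.base)
  have hneg : ∀ a : Fin 1 → ℤ, a ≠ 0 →
      (Finset.univ : Finset (Fin 1 × Fin 1)).sum (fun p => a p.1 * a p.2 * ArSurf.inter R X (L' p.2) (Γ p.1)) < 0 :=
    fun a ha => by
    rw [Fintype.sum_prod_type, Fin.sum_univ_one, Fin.sum_univ_one]
    show a 0 * a 0 * ArSurf.inter R X L E < 0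
    rw [hself]
    have h0 : a 0 ≠ 0 := fun h => ha (funext fun i => by rw [Subsingleton.elim i 0, h]; rfl)
    nlinarith [mul_pos (mul_self_pos.2 h0) hdn]
  obtain ⟨hH, hP⟩ := rational_of_pa hX hω hΓ hL' fun a ha => by
    rw [Fin.sum_univ_one, Fin.sum_univ_one]
    show (a 0 : ℤ) * ((a 0 : ℤ) * ArSurf.inter R X L E + ArSurf.inter R X ω E) < 0
    rw [hself, hK]
    have h0 : 1 ≤ a 0 := Nat.one_le_iff_ne_zero.2 fun h => ha (funext fun i => by rw [Subsingleton.elim i 0, h]; rfl)
    have h0' : (1 : ℤ) ≤ a 0 := by exact_mod_cast h0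
    have h1 : 0 ≤ ((a 0 : ℤ) - 1) * ((d : ℤ) * n) := mul_nonneg (by linarith) hdn.le
    exact mul_neg_of_pos_of_neg (by linarith) (by nlinarith)
  obtain ⟨Y, f, hf⟩ := CastLib.ArtinContract.exists_contraction_artin hX Γ hΓ L' hL' hneg hP
  have hf' : CastLib.IsContr Γ f := hf
  obtain ⟨hp, hs, hb⟩ := hf'.facts ‹IsProper X.hom›
  haveI := hp
  obtain ⟨h1, h2, h3, h4, h5, hpt, hsat, hiso⟩ := hf
  haveI := CastLib.isProper_of_projective h5
  haveI : IsLocallyNoetherian Y.left := LocallyOfFiniteType.isLocallyNoetherian Y.hom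
  obtain ⟨y, hy⟩ := hpt 0
  have himg : f.left.base '' (⋃ i, Set.range (Γ i).ι.base) = {y} := by
    rw [hU, ← hy, Scheme.Hom.comp_base, TopCat.coe_comp, Set.range_comp]
  have hyc : IsClosed ({y} : Set Y.left) := by
    haveI := CastLib.isProper_vertComp E
    rw [← hy]
    exact (E.ι ≫ f.left).isClosedMap.isClosed_range
  have hfib : f.left ⁻¹' {y} = ⋃ i, Set.range (Γ i).ι.base := by rw [← himg]; exact hsat
  refine ⟨Y, f, y, hyc, h1, h2, h3, h4, h5, hy, ?_, hiso _ (by rw [himg]; exact Set.compl_inter_self _), ?_⟩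
  · show f.left ⁻¹' {y}ᶜ = _
    rw [Set.preimage_compl, hfib, hU]
  have hne : (⋃ i, Set.range (Γ i).ι.base).Nonempty := by
    haveI := E.isIntegral
    rw [hU]
    exact Set.range_nonempty _
  have hanti : ∀ i, ∑ j, (((fun _ => 1) : Fin 1 → ℕ) j : ℤ) * ArSurf.inter R X (L' j) (Γ i) ≤ 0 := fun i => by
    rw [Fin.sum_univ_one]
    show ((1 : ℕ) : ℤ) * ArSurf.inter R X L E ≤ 0
    rw [hself, Nat.cast_one, one_mul]
    linarith
  have hconn : _root_.IsConnected (⋃ i, Set.range (Γ i).ι.base) := by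
    haveI := E.isIntegral
    rw [hU]
    exact isConnected_range E.ι.continuous
  refine finrank_cotangent_eq f ⟨hX, hΓ, hL', hH, hanti⟩ hb hyc hfib hne (fun _ => one_ne_zero) hneg hP
    ((CastLib.VSurf.of_arith hX).isField_fundamental hΓ hconn hL' _ (fun _ => le_rfl) hanti fun z' h1' _ i => h1' i)
    (exists_sections_line E e he hX hL hd hself _ (by simp [CanonFac.divIdeal, Γ])) ?_
  letI : X.left.Over (Spec (CommRingCat.of R)) := ⟨X.hom⟩
  have hχ := CanonFac.two_chiLen_divIdeal hX hω Γ hΓ hL' (fun _ => 1)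
  rw [Fin.sum_univ_one, Fin.sum_univ_one, Nat.cast_one, one_mul, one_mul] at hχ
  change _ = -(ArSurf.inter R X L E + ArSurf.inter R X ω E) at hχ
  rw [hself, hK] at hχ
  have hc : CastLib.chiLen R (ClSub.quotMod (divIdeal Γ fun _ => 1)) = n := by linarith
  rw [hc, selfInt, Fintype.sum_prod_type, Fin.sum_univ_one, Fin.sum_univ_one, Nat.cast_one, one_mul, one_mul]
  show -(ArSurf.inter R X L E) = (d : ℤ) * n
  rw [hself, neg_neg]

end Groth.Agent.RatSingLib
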