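import Groth.Agent.RatSingLib.Lift
import Groth.Agent.CanonFacLib.Supported
import Groth.Agent.CanonFacLib.VertMain
import Groth.Agent.CanonFacLib.Exists
import Groth.Agent.CastLib.ArtinTrivial
import Groth.Agent.BlowCompLib.Compose
import Groth.Agent.JacLib.IdealPull
import Groth.Agent.S19878

/-!
# Vanishing near a rational configuration
-/

set_option autoImplicit false
set_option backward.isDefEq.respectTransparency false
set_option backward.isDefEq.respectTransparency.types false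
set_option linter.style.haveILetI false
set_option linter.unusedSectionVars false
set_option maxHeartbeats 1000000

universe u

open CategoryTheory CategoryTheory.Limits AlgebraicGeometry TopologicalSpace
open Groth.Agent.AmpleLib
open Groth.Agent.IntLib (mk pullCls)
open Groth.Agent.CanonFac (divIdeal)

noncomputable section

namespace Groth.Agent.RatSingLib

variable {R : Type u} [CommRing R] [IsDomain R] [IsDiscreteValuationRing R]
variable {X : Over (Spec (CommRingCat.of R))} {r : ℕ}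

theorem divIdeal_smul (Γ : Fin r → ArSurf.VertComp R X) (a : Fin r → ℕ) (n : ℕ) :
    divIdeal Γ a ^ n = divIdeal Γ (fun i => n * a i) := by
  show (∏ j, (Γ j).ι.ker ^ a j) ^ n = ∏ j, (Γ j).ι.ker ^ (n * a j)
  rw [← Finset.prod_pow]
  exact Finset.prod_congr rfl fun j _ => by rw [← pow_mul, mul_comm]

theorem mem_support_divIdeal (Γ : Fin r → ArSurf.VertComp R X) (a : Fin r → ℕ) {x : X.left}
    (hx : x ∈ (divIdeal Γ a).support) : ∃ i, a i ≠ 0 ∧ x ∈ Set.range (Γ i).ι := by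
  by_contra hno
  push Not at hno
  rw [H1ZeroLib.mem_support_iff_stalk, CastLib.stalkIdeal_prod'] at hx
  refine hx ((Finset.prod_eq_one fun i _ => ?_).trans Ideal.one_eq_top)
  rcases Nat.eq_zero_or_pos (a i) with h0 | h0
  · rw [h0]; exact pow_zero _
  rw [IdealMulLib.stalkIdeal_eq_top _ (fun h => hno i h0.ne' ?_), ← Ideal.one_eq_top, one_pow]
  rw [← SetLike.mem_coe, CastLib.support_ker] at h
  exact h

/-- The hypothesis of rationality. -/
def NoH1 (Γ : Fin r → ArSurf.VertComp R X) : Prop :=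
  ∀ a : Fin r → ℕ, a ≠ 0 →
    Subsingleton (Coh.HH (divIdeal Γ a).subscheme (Coh.structureModule (divIdeal Γ a).subscheme) 1)

/-- `Pic⁰` of the configuration is trivial. -/
def NoPic0 (Γ : Fin r → ArSurf.VertComp R X) : Prop :=
  ∀ (Z : Scheme.{u}) (z : Z ⟶ X.left) [IsClosedImmersion z], BlowUp.IsEffCartierIdeal z.ker →
    Nonempty Z → Set.range z.base ⊆ (⋃ i, Set.range (Γ i).ι.base) →
    ∀ N : Z.Modules, PicF.IsInvertible N →
      (∀ (i : Fin r) (g : (Γ i).curve.left ⟶ Z), g ≫ z = (Γ i).ι →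
        ArSurf.curveDeg (IsLocalRing.ResidueField R) (Γ i).curve.left ((Scheme.Modules.pullback g).obj N) = 0) →
      Nonempty (N ≅ Coh.structureModule Z)

variable {Γ : Fin r → ArSurf.VertComp R X} {L : Fin r → X.left.Modules}

/-- Modules of non-negative degree have no first cohomology on the divisors of the configuration. -/
theorem subsingleton_H1_div (hX : ArSurf.IsArithSurface R X)
    (hΓ : Function.Injective fun i => Set.range ((Γ i).ι.base : (Γ i).curve.left → X.left))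
    (hL : ∀ j, ClSub.IsInverseOf (L j) (ClSub.idealMod (Γ j).ι.ker)) (hH : NoH1 Γ) {a : Fin r → ℕ} (ha : a ≠ 0)
    {M : X.left.Modules} (hM : PicF.IsInvertible M) (hdeg : ∀ i, 0 ≤ ArSurf.inter R X M (Γ i)) :
    Subsingleton (Coh.HH (divIdeal Γ a).subscheme ((Scheme.Modules.pullback (divIdeal Γ a).subschemeι).obj M) 1) := by
  obtain ⟨ω, hω⟩ := CanonFac.exists_canonical hX
  haveI := (SurfPtBlow.arSurf_facts hX).1
  refine CanonFac.subsingleton_H1_nonneg hX hω Γ hΓ hL a (hH a ha) _ (isInvertible_pullback _ hM) fun i g hg => ?_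
  haveI := (Γ i).isClosedImmersion
  haveI := CastLib.isProper_vertComp (Γ i)
  refine le_of_le_of_eq (hdeg i) ?_
  exact (CastLib.curveDeg_iso (k := IsLocalRing.ResidueField R) (CastLib.dim_vertComp (Γ i))
    ((Scheme.Modules.pullbackComp g (divIdeal Γ a).subschemeι).app M ≪≫
      (Scheme.Modules.pullbackCongr hg).app M)).symm

variable {Y : Over (Spec (CommRingCat.of R))} (f : X ⟶ Y)

/-- An affine neighbourhood of the point over which some divisor of the configuration is antiample. -/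
def IsGoodNhd (Γ : Fin r → ArSurf.VertComp R X) (U : Y.left.Opens) : Prop :=
  IsAffineOpen U ∧ ∃ a : Fin r → ℕ, a ≠ 0 ∧
    CohB1.IsAmple ((Scheme.Modules.pullback (f.left ⁻¹ᵁ U).ι).obj (ClSub.idealMod (divIdeal Γ a)))

/-- Good neighbourhoods may be shrunk. -/
theorem IsGoodNhd.mono [IsNoetherian X.left] {U V : Y.left.Opens} (h : IsGoodNhd f Γ U) (hV : IsAffineOpen V)
    (hle : V ≤ U) : IsGoodNhd f Γ V := by
  obtain ⟨-, a, ha, hA⟩ := h
  refine ⟨hV, a, ha, ?_⟩
  have hle' : f.left ⁻¹ᵁ V ≤ f.left ⁻¹ᵁ U := fun x hx => hle hx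
  let l := X.left.homOfLE hle'
  haveI : CompactSpace (f.left ⁻¹ᵁ V) :=
    isCompact_iff_compactSpace.mp (NoetherianSpace.isCompact ((f.left ⁻¹ᵁ V : X.left.Opens) : Set X.left))
  exact isAmple_of_iso ((Scheme.Modules.pullbackComp l (f.left ⁻¹ᵁ U).ι).app _ ≪≫
    (Scheme.Modules.pullbackCongr (X.left.homOfLE_ι hle')).app _)
    (isAmple_pullback_of_isInducing l l.isOpenEmbedding.isInducing hA)

/-- **Existence of a good neighbourhood.** -/
theorem exists_goodNhd (hX : ArSurf.IsArithSurface R X)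
    (hΓ : Function.Injective fun i => Set.range ((Γ i).ι.base : (Γ i).curve.left → X.left))
    (hL : ∀ j, ClSub.IsInverseOf (L j) (ClSub.idealMod (Γ j).ι.ker))
    (hneg : ∀ a : Fin r → ℤ, a ≠ 0 →
      (Finset.univ : Finset (Fin r × Fin r)).sum (fun p => a p.1 * a p.2 * ArSurf.inter R X (L p.2) (Γ p.1)) < 0)
    (hP : NoPic0 Γ) [IsProper f.left] {y : Y.left}
    (hfib : f.left ⁻¹' {y} = ⋃ i, Set.range (Γ i).ι.base) (hne : (⋃ i, Set.range (Γ i).ι.base).Nonempty) :
    ∃ U : Y.left.Opens, y ∈ U ∧ IsGoodNhd f Γ U := by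
  classical
  haveI := hX.2.1
  haveI : IsProper X.hom := (SurfPtBlow.arSurf_facts hX).1
  haveI := (SurfPtBlow.arSurf_facts hX).2
  obtain ⟨x₀, hx₀⟩ := hne
  obtain ⟨i₀, hi₀⟩ := Set.mem_iUnion.1 hx₀
  have hr : r ≠ 0 := fun h => by subst h; exact i₀.elim0
  obtain ⟨H, d, hH, hd0, hdiv⟩ := CastLib.ArtinContract.exists_divisor hX Γ hΓ L hL hneg hP
  obtain ⟨n₀, hn₀⟩ := AmpleEmb.serre_vanishing X.hom hH (DevLib.isCoh_structureModule X.left)
  let t := n₀ + 1
  let k := d * t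
  have hk₀ : n₀ ≤ k := le_trans (Nat.le_succ _) (Nat.le_mul_of_pos_left t hd0)
  obtain ⟨D, Lz, σ, hLzi, hLzD, hσ, hDle, hsupp, hLzinter, hDtriv⟩ := hdiv t (Nat.succ_pos _)
  have hkH : PicF.IsInvertible (CohB1.tensorPow H k) := isInvertible_tensorPow hH.1 k
  have hN : PicF.IsInvertible (CohB1.tensorMod (CohB1.tensorPow H k) Lz) := isInvertible_tensor hkH hLzi
  obtain ⟨e⟩ := hDtriv hr _ hN fun i => by
    rw [CastLib.inter_tensor _ hkH hLzi, CastLib.ArtinContract.inter_pow hH.1, hLzinter]; ring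
  obtain ⟨θ⟩ := IntLib.mk_eq_mk.1 (show mk (CohB1.tensorMod (ClSub.idealMod D) (CohB1.tensorMod (CohB1.tensorPow H k) Lz))
      = mk (CohB1.tensorPow H k) by
    rw [IntLib.mk_tensor, IntLib.mk_tensor, mul_left_comm, mul_comm (mk (ClSub.idealMod D)), hLzD, mul_one])
  obtain ⟨τ, hτ⟩ := CastLib.ArtinSec.exists_lift_generating D hN
    (CurveLib.subsingleton_HH_iso θ.symm 1 (CurveLib.subsingleton_HH_iso (unitL _) 1 (hn₀ k hk₀ 1 one_pos))) e
  have hD : BlowUp.IsEffCartierIdeal D := by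
    refine (S8914.result D).1 (CastLib.isInvertible_inverse_ideal (M := Lz) (L := ClSub.idealMod D) ?_)
    rw [mul_comm, ← IntLib.mk_tensor, ← IntLib.mk_structureModule (X := X.left)] at hLzD
    exact IntLib.mk_eq_mk.1 hLzD
  obtain ⟨a, ha⟩ := CanonFac.exists_eq_divIdeal hX Γ hΓ hD (fun x hx => by
    obtain ⟨i, hi⟩ := (hsupp x).1 hx
    exact Set.mem_iUnion.2 ⟨i, hi⟩)
  have ha0 : a ≠ 0 := fun h => by
    have hmem := (hsupp x₀).2 ⟨i₀, hi₀⟩
    rw [ha] at hmem
    obtain ⟨i, hi, -⟩ := mem_support_divIdeal Γ a hmem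
    exact hi (congrFun h i)
  let T : Set Y.left := f.left '' (CohB1.genLocus _ τ : Set X.left)ᶜ
  have hT : IsClosed T := f.left.isClosedMap _ (CohB1.genLocus _ τ).2.isClosed_compl
  have hyT : y ∈ (⟨Tᶜ, hT.isOpen_compl⟩ : Y.left.Opens) := by
    rintro ⟨x, hx, hxy⟩
    obtain ⟨i, hi⟩ := Set.mem_iUnion.1 (hfib.le hxy)
    exact hx (hτ x ((hsupp x).2 ⟨i, hi⟩))
  obtain ⟨_, ⟨U, hU, rfl⟩, hyU, hUT⟩ :=
    Y.left.isBasis_affineOpens.exists_subset_of_mem_open hyT hT.isOpen_compl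
  refine ⟨U, hyU, hU, a, ha0, ?_⟩
  let W := f.left ⁻¹ᵁ U
  have hWτ : W ≤ CohB1.genLocus _ τ := fun x hx => by
    by_contra h
    exact hUT hx ⟨x, h, rfl⟩
  have h1 : pullCls W.ι (mk (CohB1.tensorMod (CohB1.tensorPow H k) Lz)) = 1 :=
    CastLib.HensContract.pullCls_eq_one_of_gen W.ι hN τ fun z => hWτ z.2
  have h2 : pullCls W.ι (mk (ClSub.idealMod D)) = pullCls W.ι (mk (CohB1.tensorPow H k)) := by
    calc pullCls W.ι (mk (ClSub.idealMod D))
        = pullCls W.ι (mk (ClSub.idealMod D)) * pullCls W.ι (mk (CohB1.tensorMod (CohB1.tensorPow H k) Lz)) := by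
          rw [h1, mul_one]
      _ = pullCls W.ι (mk (CohB1.tensorPow H k) * (mk Lz * mk (ClSub.idealMod D))) := by
          rw [IntLib.mk_tensor, ← map_mul]; congr 1; ac_rfl
      _ = _ := by rw [hLzD, mul_one]
  rw [IntLib.pullCls_mk, IntLib.pullCls_mk, ha] at h2
  obtain ⟨eD⟩ := IntLib.mk_eq_mk.1 h2
  haveI : CompactSpace W :=
    isCompact_iff_compactSpace.mp (NoetherianSpace.isCompact ((W : X.left.Opens) : Set X.left))
  refine isAmple_of_iso eD.symm (isAmple_pullback_of_isInducing W.ι W.ι.isOpenEmbedding.isInducing ?_)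
  exact (isAmple_pow_iff hH.1 (Nat.mul_pos hd0 (Nat.succ_pos _))).2 hH

/-- **Vanishing over a good neighbourhood.** -/
theorem subsingleton_H1_nhd (hX : ArSurf.IsArithSurface R X)
    (hΓ : Function.Injective fun i => Set.range ((Γ i).ι.base : (Γ i).curve.left → X.left))
    (hL : ∀ j, ClSub.IsInverseOf (L j) (ClSub.idealMod (Γ j).ι.ker)) (hH : NoH1 Γ)
    [IsProper f.left] [IsLocallyNoetherian Y.left] {U : Y.left.Opens} (hU : IsGoodNhd f Γ U)
    (hΔ : ∀ i, Set.range (Γ i).ι ⊆ f.left ⁻¹ᵁ U)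
    {M : X.left.Modules} (hM : PicF.IsInvertible M) (hdeg : ∀ i, 0 ≤ ArSurf.inter R X M (Γ i)) :
    Subsingleton (Coh.HH (f.left ⁻¹ᵁ U).toScheme ((Scheme.Modules.pullback (f.left ⁻¹ᵁ U).ι).obj M) 1) := by
  classical
  haveI := hX.2.1
  haveI : IsProper X.hom := (SurfPtBlow.arSurf_facts hX).1
  haveI := (SurfPtBlow.arSurf_facts hX).2
  obtain ⟨hUa, a, ha, hA⟩ := hU
  let W := f.left ⁻¹ᵁ U
  haveI : IsAffine U.toScheme := hUa
  haveI : IsNoetherianRing Γ(Y.left, U) := IsLocallyNoetherian.component_noetherian ⟨U, hUa⟩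
  let MW := (Scheme.Modules.pullback W.ι).obj M
  have hMW : PicF.IsInvertible MW := isInvertible_pullback _ hM
  obtain ⟨n₀, hn₀⟩ := AmpleEmb.serre_vanishing ((f.left ∣_ U) ≫ hUa.isoSpec.hom) hA
    (CurveLib.isCoh_of_isInvertible hMW)
  let n := n₀ + 1
  let b : Fin r → ℕ := fun i => n * a i
  have hb : b ≠ 0 := fun h => ha (funext fun i =>
    (Nat.mul_eq_zero.1 (congrFun h i)).resolve_left (Nat.succ_ne_zero _))
  let D := divIdeal Γ b
  have hDs : ∀ z : D.subscheme, D.subschemeι z ∈ W := fun z => by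
    obtain ⟨i, -, hi⟩ := mem_support_divIdeal Γ b ((D.range_subschemeι).le ⟨z, rfl⟩)
    exact hΔ i hi
  let j : D.subscheme ⟶ W.toScheme := IsOpenImmersion.lift W.ι D.subschemeι (by
    rw [Scheme.Opens.range_ι]
    rintro _ ⟨z, rfl⟩
    exact hDs z)
  have hj : j ≫ W.ι = D.subschemeι := IsOpenImmersion.lift_fac _ _ _
  haveI : IsClosedImmersion j := by
    haveI : IsClosedImmersion (j ≫ W.ι) := by rw [hj]; infer_instance
    exact IsClosedImmersion.of_comp j W.ι
  have hker : D.comap W.ι = j.ker := by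
    haveI : IsClosedImmersion (j ≫ W.ι) := by rw [hj]; infer_instance
    have h := TwistShriek.comap_ker_of_mono j W.ι
    rwa [hj, Scheme.IdealSheafData.ker_subschemeι] at h
  obtain ⟨-, -, hDinv, hDmk⟩ := CanonFac.divIdeal_facts hX Γ b
  obtain ⟨-, -, -, hamk⟩ := CanonFac.divIdeal_facts hX Γ a
  have hD : BlowUp.IsEffCartierIdeal D := (S8914.result _).1 hDinv
  obtain ⟨eD⟩ := JacLib.nonempty_iso_pullback_idealMod W.ι D hD (BlowCompLib.isEffCartier_comap_openImmersion hD W.ι)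
  have hcls : mk (ClSub.idealMod j.ker) =
      mk (CohB1.tensorPow ((Scheme.Modules.pullback W.ι).obj (ClSub.idealMod (divIdeal Γ a))) n) := by
    rw [← hker, ← IntLib.mk_congr eD, ← IntLib.pullCls_mk, IntLib.mk_tensorPow, ← IntLib.pullCls_mk, ← map_pow, hDmk,
      hamk, ← Finset.prod_pow]
    exact congrArg _ (Finset.prod_congr rfl fun i _ => by rw [← pow_mul, mul_comm])
  obtain ⟨eI⟩ := IntLib.mk_eq_mk.1 (show mk (CohB1.tensorMod MW
      (CohB1.tensorPow ((Scheme.Modules.pullback W.ι).obj (ClSub.idealMod (divIdeal Γ a))) n)) =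
      mk (CohB1.tensorMod (ClSub.idealMod j.ker) MW) by rw [IntLib.mk_tensor, IntLib.mk_tensor, hcls, mul_comm])
  refine subsingleton_step j hMW (CurveLib.subsingleton_HH_iso eI 1 (hn₀ n (Nat.le_succ _) 1 one_pos)) ?_
  refine CurveLib.subsingleton_HH_iso ((Scheme.Modules.pullbackComp j W.ι).app M ≪≫
    (Scheme.Modules.pullbackCongr hj).app M).symm 1 ?_
  exact subsingleton_H1_div hX hΓ hL hH hb hM hdeg

end Groth.Agent.RatSingLib
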