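import Groth.Agent.RatSingLib.Powers
import Groth.Agent.RatSingLib.Vanish

/-!
# The local ring at the image of a rational configuration
-/

set_option autoImplicit false
set_option backward.isDefEq.respectTransparency false
set_option backward.isDefEq.respectTransparency.types false
set_option linter.style.haveILetI false
set_option linter.unusedSectionVars false
set_option maxHeartbeats 1000000

universe u

open CategoryTheory CategoryTheory.Limits AlgebraicGeometry TopologicalSpace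
open Groth.Agent.AmpleLib
open Groth.Agent.IntLib (mk pullCls)
open Groth.Agent.CanonFac (divIdeal)
open Groth.Agent.CastLib (toOpen germ_toOpen stalkIdeal_of_comap)

noncomputable section

namespace Groth.Agent.RatSingLib

variable {R : Type u} [CommRing R] [IsDomain R] [IsDiscreteValuationRing R]
variable {X : Over (Spec (CommRingCat.of R))} {r : ℕ} {Γ : Fin r → ArSurf.VertComp R X}
variable {Y : Over (Spec (CommRingCat.of R))} (f : X ⟶ Y) {U : Y.left.Opens}

/-- A closed subscheme inside an open set. -/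
theorem exists_sub {D : X.left.IdealSheafData} {W : X.left.Opens} (hD : (D.support : Set X.left) ⊆ W) :
    ∃ j : D.subscheme ⟶ W.toScheme, j ≫ W.ι = D.subschemeι ∧ IsClosedImmersion j ∧ D.comap W.ι = j.ker := by
  let j : D.subscheme ⟶ W.toScheme := IsOpenImmersion.lift W.ι D.subschemeι (by
    rw [Scheme.Opens.range_ι]
    rintro _ ⟨z, rfl⟩
    exact hD ((D.range_subschemeι).le ⟨z, rfl⟩))
  have hj : j ≫ W.ι = D.subschemeι := IsOpenImmersion.lift_fac _ _ _
  haveI : IsClosedImmersion (j ≫ W.ι) := by rw [hj]; infer_instance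
  haveI : IsClosedImmersion j := IsClosedImmersion.of_comp j W.ι
  refine ⟨j, hj, inferInstance, ?_⟩
  have h := TwistShriek.comap_ker_of_mono j W.ι
  rwa [hj, Scheme.IdealSheafData.ker_subschemeι] at h

theorem support_le_of_subset (a : Fin r → ℕ) (hΔ : ∀ i, Set.range (Γ i).ι ⊆ f.left ⁻¹ᵁ U) :
    ((divIdeal Γ a).support : Set X.left) ⊆ f.left ⁻¹ᵁ U := fun x hx => by
  obtain ⟨i, -, hi⟩ := mem_support_divIdeal Γ a hx
  exact hΔ i hi

/-- The hypotheses on a divisor and a neighbourhood. -/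
structure Setting (Γ : Fin r → ArSurf.VertComp R X) (L : Fin r → X.left.Modules) (z : Fin r → ℕ) : Prop where
  arith : ArSurf.IsArithSurface R X
  inj : Function.Injective fun i => Set.range ((Γ i).ι.base : (Γ i).curve.left → X.left)
  inv : ∀ j, ClSub.IsInverseOf (L j) (ClSub.idealMod (Γ j).ι.ker)
  noH1 : NoH1 Γ
  anti : ∀ i, ∑ j, (z j : ℤ) * ArSurf.inter R X (L j) (Γ i) ≤ 0

variable {L : Fin r → X.left.Modules} {z : Fin r → ℕ}

theorem Setting.subsingleton_pow (S : Setting Γ L z) [IsProper f.left] [IsLocallyNoetherian Y.left]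
    (hU : IsGoodNhd f Γ U) (hΔ : ∀ i, Set.range (Γ i).ι ⊆ f.left ⁻¹ᵁ U) (m : ℕ) :
    Subsingleton (Coh.HH (f.left ⁻¹ᵁ U).toScheme
      (ClSub.idealMod ((divIdeal Γ z).comap (f.left ⁻¹ᵁ U).ι ^ m)) 1) := by
  haveI := (SurfPtBlow.arSurf_facts S.arith).1
  obtain ⟨-, -, hinv, -⟩ := CanonFac.divIdeal_facts S.arith Γ (fun i => m * z i)
  have hD := (S8914.result _).1 hinv
  obtain ⟨e⟩ := JacLib.nonempty_iso_pullback_idealMod (f.left ⁻¹ᵁ U).ι _ hD
    (BlowCompLib.isEffCartier_comap_openImmersion hD _)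
  rw [← S19878.comap_pow', divIdeal_smul]
  refine CurveLib.subsingleton_HH_iso e 1 (subsingleton_H1_nhd f S.arith S.inj S.inv S.noH1 hU hΔ hinv fun i => ?_)
  rw [CanonFac.inter_idealMod S.arith Γ S.inv]
  have h := S.anti i
  have h2 : ∑ j, ((m * z j : ℕ) : ℤ) * ArSurf.inter R X (L j) (Γ i) =
      (m : ℤ) * ∑ j, (z j : ℤ) * ArSurf.inter R X (L j) (Γ i) := by
    rw [Finset.mul_sum]; exact Finset.sum_congr rfl fun j _ => by push_cast; ring
  rw [h2]
  nlinarith [Nat.cast_nonneg (α := ℤ) m]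

/-- Two equations. -/
def HasPair (Γ : Fin r → ArSurf.VertComp R X) (z : Fin r → ℕ) (W : X.left.Opens) : Prop :=
  ∃ a b : Γ(X.left, W), ∀ (x : X.left) (hx : x ∈ W), IntMult.stalkIdeal (divIdeal Γ z) x =
    Ideal.span {(X.left.presheaf.germ W x hx).hom a, (X.left.presheaf.germ W x hx).hom b}

/-- **Existence of two equations near the configuration.** -/
theorem Setting.exists_pair (S : Setting Γ L z) [IsProper f.left] [IsLocallyNoetherian Y.left] {y : Y.left}
    (hU : IsGoodNhd f Γ U) (hyU : y ∈ U) (hfib : f.left ⁻¹' {y} = ⋃ i, Set.range (Γ i).ι.base) (hz : ∀ i, z i ≠ 0)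
    (θ₁ θ₂ : Coh.structureModule (divIdeal Γ z).subscheme ⟶
      (Scheme.Modules.pullback (divIdeal Γ z).subschemeι).obj (ClSub.idealMod (divIdeal Γ z)))
    (hθ : ∀ w, w ∈ CohB1.genLocus _ θ₁ ∨ w ∈ CohB1.genLocus _ θ₂) :
    ∃ V : Y.left.Opens, y ∈ V ∧ IsGoodNhd f Γ V ∧ HasPair Γ z (f.left ⁻¹ᵁ V) := by
  classical
  haveI := (SurfPtBlow.arSurf_facts S.arith).1
  haveI := (SurfPtBlow.arSurf_facts S.arith).2
  have hΔ : ∀ i, Set.range (Γ i).ι ⊆ f.left ⁻¹ᵁ U := fun i x hx => by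
    have h : f.left x = y := hfib.ge (Set.mem_iUnion.2 ⟨i, hx⟩)
    show f.left x ∈ U
    rw [h]; exact hyU
  let W := f.left ⁻¹ᵁ U
  let D := divIdeal Γ z
  obtain ⟨j, hj, hjc, hker⟩ := exists_sub (W := W) (support_le_of_subset f z hΔ)
  haveI := hjc
  obtain ⟨-, -, hinv, -⟩ := CanonFac.divIdeal_facts S.arith Γ z
  have hD := (S8914.result _).1 hinv
  have hC : BlowUp.IsEffCartierIdeal (D.comap W.ι) := BlowCompLib.isEffCartier_comap_openImmersion hD W.ι
  have hCi : PicF.IsInvertible (ClSub.idealMod (D.comap W.ι)) := (S8914.result _).2 hC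
  obtain ⟨e₁⟩ := JacLib.nonempty_iso_pullback_idealMod W.ι D hD hC
  let φ : (Scheme.Modules.pullback D.subschemeι).obj (ClSub.idealMod D) ≅
      (Scheme.Modules.pullback j).obj (ClSub.idealMod (D.comap W.ι)) :=
    (Scheme.Modules.pullbackCongr hj.symm).app _ ≪≫ ((Scheme.Modules.pullbackComp j W.ι).app _).symm ≪≫
      (Scheme.Modules.pullback j).mapIso e₁
  have h1 : Subsingleton (Coh.HH W.toScheme (CohB1.tensorMod (ClSub.idealMod j.ker) (ClSub.idealMod (D.comap W.ι))) 1) := by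
    have h := S.subsingleton_pow f hU hΔ 2
    obtain ⟨e⟩ := IntLib.mk_eq_mk.1 (show IntLib.mk (ClSub.idealMod (D.comap W.ι ^ 2)) =
        IntLib.mk (CohB1.tensorMod (ClSub.idealMod j.ker) (ClSub.idealMod (D.comap W.ι))) by
      have hm := (CastLib.mk_idealMod_prod (fun _ : Unit => D.comap W.ι) (fun _ => hC) (fun _ => 2) Finset.univ).2
      simp only [Finset.univ_unique, Finset.prod_singleton] at hm
      rw [hm, pow_two, IntLib.mk_tensor, hker])
    exact CurveLib.subsingleton_HH_iso e 1 h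
  obtain ⟨τ₁, hτ₁⟩ := exists_lift_gen j hCi h1 (θ₁ ≫ φ.hom)
  obtain ⟨τ₂, hτ₂⟩ := exists_lift_gen j hCi h1 (θ₂ ≫ φ.hom)
  let W₀ : W.toScheme.Opens := CohB1.genLocus _ τ₁ ⊔ CohB1.genLocus _ τ₂
  have hW₀ : ∀ w, j w ∈ W₀ := fun w => by
    rcases hθ w with h | h
    · exact Or.inl (hτ₁ (by rw [genLocus_comp_iso]; exact h))
    · exact Or.inr (hτ₂ (by rw [genLocus_comp_iso]; exact h))
  let T : Set Y.left := f.left '' (W.ι ''ᵁ W₀ : Set X.left)ᶜ
  have hT : IsClosed T := f.left.isClosedMap _ (W.ι ''ᵁ W₀).2.isClosed_compl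
  have hyT : y ∈ U ⊓ ⟨Tᶜ, hT.isOpen_compl⟩ := by
    refine ⟨hyU, ?_⟩
    rintro ⟨x, hx, hxy⟩
    obtain ⟨i, hi⟩ := Set.mem_iUnion.1 (hfib.le hxy)
    have hxD : x ∈ D.support := Scheme.IdealSheafData.support_antitone (show D ≤ (Γ i).ι.ker by
      show (∏ j, (Γ j).ι.ker ^ z j) ≤ _
      rw [← Finset.mul_prod_erase _ _ (Finset.mem_univ i),
        show z i = (z i - 1) + 1 from (Nat.sub_add_cancel (Nat.pos_of_ne_zero (hz i))).symm, pow_succ', mul_assoc]
      exact TwistShriek.mul_le_left' _ _) (show x ∈ ((Γ i).ι.ker.support : Set X.left) by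
      rw [CastLib.support_ker]; exact hi)
    obtain ⟨w, rfl⟩ := (D.range_subschemeι).ge hxD
    refine hx ⟨j w, hW₀ w, ?_⟩
    exact (Scheme.Hom.comp_apply j W.ι w).symm.trans (congrArg (fun g => g w) hj)
  obtain ⟨_, ⟨V, hV, rfl⟩, hyV, hVT⟩ :=
    Y.left.isBasis_affineOpens.exists_subset_of_mem_open hyT (U ⊓ ⟨Tᶜ, hT.isOpen_compl⟩).2
  have hle : V ≤ U := fun v hv => (hVT hv).1
  let c : ∀ (_ : Coh.structureModule W.toScheme ⟶ ClSub.idealMod (D.comap W.ι)), Γ(X.left, W) := fun τ =>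
    W.topIso.hom (sec (τ ≫ ClSub.idealModι (D.comap W.ι)))
  have hle' : f.left ⁻¹ᵁ V ≤ W := fun x hx => hle hx
  refine ⟨V, hyV, hU.mono f hV hle, X.left.presheaf.map (homOfLE hle').op (c τ₁),
    X.left.presheaf.map (homOfLE hle').op (c τ₂), fun x hx => ?_⟩
  rw [TopCat.Presheaf.germ_res_apply, TopCat.Presheaf.germ_res_apply]
  obtain ⟨w, rfl⟩ : ∃ w : W.toScheme, W.ι w = x := ⟨⟨x, hle' hx⟩, rfl⟩
  refine (stalkIdeal_of_comap D (c τ₁) (c τ₂) w).2 ?_
  have hc : ∀ τ, toOpen W (c τ) = sec (τ ≫ ClSub.idealModι (D.comap W.ι)) := fun τ =>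
    ConcreteCategory.congr_hom W.topIso.hom_inv_id _
  rw [hc, hc]
  have hw : w ∈ W₀ := by
    by_contra hw
    refine (hVT hx).2 ⟨W.ι w, fun ⟨w', hw', he⟩ => hw ?_, rfl⟩
    rw [← W.ι.isOpenEmbedding.injective he]; exact hw'
  rcases hw with hw | hw
  · refine le_antisymm ((CastLib.stalkIdeal_eq_span_of_gen hC τ₁ hw).le.trans
      (Ideal.span_mono (Set.singleton_subset_iff.2 (Set.mem_insert _ _)))) (Ideal.span_le.2 ?_)
    rintro _ (rfl | rfl) <;> exact CastLib.mem_stalkIdeal_sec _ _ _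
  · refine le_antisymm ((CastLib.stalkIdeal_eq_span_of_gen hC τ₂ hw).le.trans
      (Ideal.span_mono (Set.singleton_subset_iff.2 (Set.mem_insert_of_mem _ rfl)))) (Ideal.span_le.2 ?_)
    rintro _ (rfl | rfl) <;> exact CastLib.mem_stalkIdeal_sec _ _ _

/-- Lengths of the functions on the infinitesimal neighbourhoods do not see the ambient open set. -/
theorem length_quotMod_comap [IsLocallyNoetherian X.left] {W : X.left.Opens} {D : X.left.IdealSheafData} (hD : (D.support : Set X.left) ⊆ W) :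
    letI : X.left.Over (Spec (CommRingCat.of R)) := ⟨X.hom⟩
    letI : W.toScheme.Over (Spec (CommRingCat.of R)) := ⟨W.ι ≫ X.hom⟩
    Module.length R (Coh.HH W.toScheme (ClSub.quotMod (D.comap W.ι)) 0) =
      Module.length R (Coh.HH X.left (ClSub.quotMod D) 0) := by
  letI : X.left.Over (Spec (CommRingCat.of R)) := ⟨X.hom⟩
  letI : W.toScheme.Over (Spec (CommRingCat.of R)) := ⟨W.ι ≫ X.hom⟩
  obtain ⟨j, hj, hjc, hker⟩ := exists_sub hD
  haveI := hjc
  haveI : IsLocallyNoetherian W.toScheme := inferInstance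
  have hq : Coh.IsQCoh (Coh.structureModule D.subscheme) :=
    InvExt.isQCoh_of_isInvertible ParaFLib.isInvertible_structureModule
  obtain ⟨e⟩ := TwistShriek.nonempty_quotMod_ker_iso j
  rw [hker, CastLib.length_iso R e]
  have h1 := length_push (R := R) j (W.ι ≫ X.hom) (Coh.structureModule D.subscheme) hq 0
  have h2 := length_push (R := R) D.subschemeι X.hom (Coh.structureModule D.subscheme) hq 0
  have hw : j ≫ W.ι ≫ X.hom = D.subschemeι ≫ X.hom := by rw [← Category.assoc, hj]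
  rw [hw] at h1
  exact h1.trans h2.symm

end Groth.Agent.RatSingLib
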