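import Groth.Agent.EulerLerayLib.Main
import Groth.Agent.NumBddLib.Cut
import Groth.Agent.CurveLib.FibreVanish
import Groth.Agent.CurveLib.Deg
import Groth.Agent.RpushLib.Finite
import Groth.Agent.AmpleFamLib.TopVan
import Groth.Agent.HilbLib.Poly
import Groth.Agent.S1525
import Groth.Agent.GrothBddLib.Main
import Groth.Prelude.Def_ClSub2

/-!
# `R¹π_* O = 0` and Euler characteristics, for modifications with finitely many exceptional points
-/

set_option autoImplicit false
set_option backward.isDefEq.respectTransparency false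
set_option linter.style.haveILetI false

universe u

open CategoryTheory CategoryTheory.Limits AlgebraicGeometry TopologicalSpace

noncomputable section

namespace Groth.Agent.RatSingLib

variable (k : Type u) [Field k] {S X : Scheme.{u}} [S.Over (Spec (CommRingCat.of k))]
  [X.Over (Spec (CommRingCat.of k))] [IsProper (S ↘ Spec (CommRingCat.of k))]
  [IsProper (X ↘ Spec (CommRingCat.of k))]

theorem isZero_rpush_iff [IsIntegral S] (π : S ⟶ X)
    (hπ : π ≫ (X ↘ Spec (CommRingCat.of k)) = S ↘ Spec (CommRingCat.of k))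
    (hO : IsIso (ClSub.unitToPush π)) (hdimS : topologicalKrullDim S ≤ 2) (C : Set X) (hC : IsClosed C)
    (hd : topologicalKrullDim C ≤ 0) (hne : Cᶜ.Nonempty) (hiso : IsIso (π ∣_ (⟨Cᶜ, hC.isOpen_compl⟩ : X.Opens))) :
    IsZero ((Coh.RpushAb π 1).obj (Coh.toAb (Coh.structureModule S))) ↔
      Curv2.euler k S (Coh.structureModule S) = Curv2.euler k X (Coh.structureModule X) := by
  classical
  haveI : IsProper π := by
    haveI : IsProper (π ≫ (X ↘ (Spec (CommRingCat.of k)))) := hπ ▸ inferInstance
    exact IsProper.of_comp π (X ↘ (Spec (CommRingCat.of k)))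
  haveI := Groth.Agent.EulerIneqLib.isNoetherian_proper (X := S) k
  haveI := Groth.Agent.EulerIneqLib.isNoetherian_proper (X := X) k
  haveI : HasInjectiveResolutions S.Modules := inferInstance
  let U : X.Opens := ⟨Cᶜ, hC.isOpen_compl⟩
  set M := Coh.structureModule S
  have hM : Coh.IsCoh M := CurveLib.isCoh_of_isInvertible ParaFLib.isInvertible_structureModule
  -- fibre dimensions
  have hfib0 : ∀ y : X, y ∈ U → topologicalKrullDim ↥(π.fiber y) ≤ 0 := by
    intro y hy
    rw [IsHomeomorph.topologicalKrullDim_eq _ (π.fiberHomeo y).isHomeomorph]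
    have hbij : Function.Bijective (π ∣_ U) := (Scheme.Hom.homeomorph (π ∣_ U)).bijective
    haveI : Subsingleton ↥(π.base ⁻¹' {y}) := ⟨fun a b => by
      have ha : π a.1 ∈ U := by rw [show π a.1 = y from a.2]; exact hy
      have hb : π b.1 ∈ U := by rw [show π b.1 = y from b.2]; exact hy
      have e := hbij.1 (a₁ := (⟨a.1, ha⟩ : (π ⁻¹ᵁ U : S.Opens))) (a₂ := (⟨b.1, hb⟩ : (π ⁻¹ᵁ U : S.Opens)))
        (Subtype.ext (by simp only [morphismRestrict_base_coe]; exact a.2.trans b.2.symm))
      exact Subtype.ext (congrArg Subtype.val e :)⟩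
    haveI : Subsingleton (IrreducibleCloseds ↥(π.base ⁻¹' {y})) := ⟨fun a b => SetLike.coe_injective
      ((Set.subsingleton_of_subsingleton.eq_empty_or_singleton).elim
        (fun h => absurd h a.isIrreducible.nonempty.ne_empty) fun ⟨x, hx⟩ => hx.trans (by
          obtain ⟨z, hz⟩ := b.isIrreducible.nonempty
          exact (Set.eq_singleton_iff_unique_mem.2 ⟨Subsingleton.elim z x ▸ hz, fun _ _ => Subsingleton.elim _ _⟩).symm))⟩
    exact Order.krullDim_nonpos_of_subsingleton
  have hη : π (genericPoint S) ∈ U := by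
    have hne' : ((π ⁻¹ᵁ U : S.Opens) : Set S).Nonempty := by
      obtain ⟨y, hy⟩ := hne
      obtain ⟨⟨a, ha⟩, -⟩ := (Scheme.Hom.homeomorph (π ∣_ U)).bijective.2 ⟨y, hy⟩
      exact ⟨a, ha⟩
    exact ((genericPoint_spec S).mem_open_set_iff (π ⁻¹ᵁ U).isOpen).2 (by simpa using hne')
  have hfib1 : ∀ y : X, topologicalKrullDim ↥(π.fiber y) ≤ 1 := by
    intro y
    by_cases hy : y ∈ U
    · exact (hfib0 y hy).trans zero_le_one
    rw [IsHomeomorph.topologicalKrullDim_eq _ (π.fiberHomeo y).isHomeomorph]
    have hy' : y ∈ C := not_not.1 hy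
    have hcl : IsClosed ({y} : Set X) := by
      rw [← CurveLib.closure_singleton_eq hC hd hy']
      exact isClosed_closure
    have hlt := HilbLib.dim_lt_of_notMem (n := 2) (hcl.preimage π.continuous)
      (fun x _ => (genericPoint_spec S).specializes trivial |>.mem_closure)
      (fun h => hy ((show π (genericPoint S) = y from h) ▸ hη)) (by
        refine lt_of_le_of_lt ((Topology.IsInducing.subtypeVal).topologicalKrullDim_le.trans hdimS) ?_
        exact_mod_cast Nat.lt_succ_self 2)
    change _ < ((2 : ℕ) : WithBot ℕ∞) at hlt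
    revert hlt
    generalize topologicalKrullDim ↥(π.base ⁻¹' {y}) = n
    intro hlt
    induction n using WithBot.recBotCoe with
    | bot => exact bot_le
    | coe m => exact WithBot.coe_le_coe.2 (ENat.lt_add_one_iff ENat.one_ne_top |>.1 (WithBot.coe_lt_coe.1 hlt))
  -- stalks
  have hst : ∀ (p : ℕ) (y : X) (d : ℕ), topologicalKrullDim ↥(π.fiber y) ≤ d → d < p →
      Subsingleton (((Coh.Rpush π p).obj M).presheaf.stalk y) := fun p y d hdy hp =>
    AddCommGrpCat.subsingleton_of_isZero (IsZero.of_iso (CurveLib.isZero_stalk_rpush π y d hdy M hM p hp)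
      ((TopCat.Presheaf.stalkFunctor AddCommGrpCat.{u} y).mapIso
        ((sheafToPresheaf _ _).mapIso ((RpushLib.toAbRpushIso π p).app M))))
  have hge : ∀ p, 2 ≤ p → IsZero ((Coh.Rpush π p).obj M) := fun p hp =>
    GrothBddLib.isZero_of_stalks fun y => hst p y 1 (by simpa using hfib1 y) hp
  set R1 := (Coh.Rpush π 1).obj M
  have hR : Coh.IsCoh R1 := RpushLib.isCoh_rpush π hM 1
  have hsupp : CohB1.support R1 ⊆ C := fun y hy => by
    by_contra hyC
    exact hy (hst 1 y 0 (by simpa using hfib0 y hyC) one_pos)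
  have e0 : Curv2.euler k X ((Coh.Rpush π 0).obj M) = Curv2.euler k X (Coh.structureModule X) :=
    CurveLib.euler_iso (K := k)
      ((Scheme.Modules.pushforward π).rightDerivedZeroIsoSelf.app M ≪≫ (@asIso _ _ _ _ _ hO).symm)
  have hsum : Curv2.euler k S M = Curv2.euler k X (Coh.structureModule X) - Curv2.euler k X R1 := by
    rw [Groth.Agent.S1525.result k X S π hπ M hM,
      finsum_eq_sum_of_support_subset _ (s := Finset.range 2) fun i hi => ?_, Finset.sum_range_succ,
      Finset.sum_range_one, e0]
    · ring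
    · rw [Finset.coe_range, Set.mem_Iio]
      by_contra hle
      rw [Function.mem_support] at hi
      exact hi (by rw [Groth.Agent.NumBdd.euler_isZero (k := k) (hge i (not_lt.1 hle)), mul_zero])
  constructor
  · intro h
    have hz : IsZero R1 := by
      have h' : IsZero ((QCohLib.toAbF X).obj R1) := h.of_iso ((RpushLib.toAbRpushIso π 1).app M)
      rw [IsZero.iff_id_eq_zero] at h' ⊢
      exact (QCohLib.toAbF X).map_injective ((((QCohLib.toAbF X).map_id R1).trans h').trans ((QCohLib.toAbF X).map_zero _ _).symm)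
    rw [hsum, Groth.Agent.NumBdd.euler_isZero (k := k) hz, sub_zero]
  · intro h
    have h0 : Curv2.euler k X R1 = 0 := by linarith
    rw [CurveLib.euler_of_dim_le_zero hC hsupp hd] at h0
    haveI := EulerIneqLib.finite_HH (k := k) hR 0
    haveI : Subsingleton (Coh.HH X R1 0) :=
      (Module.finrank_eq_zero_iff_of_free k (Coh.HH X R1 0)).1 (by exact_mod_cast h0)
    have hz : IsZero R1 := GrothBddLib.isZero_of_stalks fun y => CurveLib.subsingleton_stalk_of_H0 hC hd R1 hsupp y
    exact ((QCohLib.toAbF X).map_isZero hz).of_iso ((RpushLib.toAbRpushIso π 1).app M).symm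

end Groth.Agent.RatSingLib
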