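import Groth.Agent.RatSingLib.Formula
import Groth.Agent.CastLib.ContractUnique

/-!
# Tangent spaces at contracted configurations
-/

set_option autoImplicit false
set_option backward.isDefEq.respectTransparency false
set_option backward.isDefEq.respectTransparency.types false
set_option linter.style.haveILetI false
set_option linter.unusedSectionVars false
set_option maxHeartbeats 1000000

universe u

open CategoryTheory CategoryTheory.Limits AlgebraicGeometry TopologicalSpace
open Groth.Agent.AmpleLib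
open Groth.Agent.CanonFac (divIdeal)

noncomputable section

namespace Groth.Agent.RatSingLib

/-- The cotangent dimension from the lengths of the first two neighbourhoods. -/
theorem finrank_cotangent_of_lengths {R A : Type u} [CommRing R] [CommRing A] [IsLocalRing A] [IsNoetherianRing A]
    [Algebra R A] {c q : ℕ} (hc : c ≠ 0)
    (h1 : Module.length R (A ⧸ IsLocalRing.maximalIdeal A ^ 1) = c)
    (h2 : Module.length R (A ⧸ IsLocalRing.maximalIdeal A ^ 2) = ((c + q * c + c : ℕ) : ℕ∞)) :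
    Module.finrank (IsLocalRing.ResidueField A) (IsLocalRing.CotangentSpace A) = q + 1 := by
  let m := IsLocalRing.maximalIdeal A
  -- the exact sequence
  let p : (A ⧸ m ^ 2) →ₗ[R] (A ⧸ m ^ 1) := (Ideal.Quotient.factorₐ R (Ideal.pow_le_pow_right (by omega))).toLinearMap
  have hp : Function.Surjective p :=
    Ideal.Quotient.factor_surjective (Ideal.pow_le_pow_right (by omega : 1 ≤ 2))
  let i : m.Cotangent →ₗ[R] (A ⧸ m ^ 2) := m.cotangentToQuotientSquare.restrictScalars R
  have hi : Function.Injective i := m.cotangentToQuotientSquare_injective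
  have hex : Function.Exact i p := fun x => by
    obtain ⟨a, rfl⟩ := Ideal.Quotient.mk_surjective x
    constructor
    · intro h
      have ha : a ∈ m := by
        have h' : Ideal.Quotient.mk (m ^ 1) a = 0 := h
        rwa [Ideal.Quotient.eq_zero_iff_mem, pow_one] at h'
      exact ⟨m.toCotangent ⟨a, ha⟩, rfl⟩
    · rintro ⟨z, hz⟩
      obtain ⟨⟨b, hb⟩, rfl⟩ := m.toCotangent_surjective z
      rw [← hz]
      show Ideal.Quotient.mk (m ^ 1) b = 0
      rwa [Ideal.Quotient.eq_zero_iff_mem, pow_one]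
  have hlen := Module.length_eq_add_of_exact i p hi hp hex
  -- the cotangent space
  haveI : IsScalarTower R A (IsLocalRing.ResidueField A) := inferInstance
  haveI : IsScalarTower R A (IsLocalRing.CotangentSpace A) := inferInstance
  haveI : IsScalarTower R (IsLocalRing.ResidueField A) (IsLocalRing.CotangentSpace A) :=
    IsScalarTower.of_algebraMap_smul fun r x => by
      rw [IsScalarTower.algebraMap_apply R A (IsLocalRing.ResidueField A),
        IsScalarTower.algebraMap_smul, IsScalarTower.algebraMap_smul]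
  let b := Module.finBasis (IsLocalRing.ResidueField A) (IsLocalRing.CotangentSpace A)
  have hκ : Module.length R (IsLocalRing.ResidueField A) = c := by
    let e : (A ⧸ m ^ 1) ≃ₐ[R] IsLocalRing.ResidueField A := Ideal.quotientEquivAlgOfEq R (pow_one m)
    rw [← e.toLinearEquiv.length_eq, h1]
  have hcot : Module.length R m.Cotangent =
      ((Module.finrank (IsLocalRing.ResidueField A) (IsLocalRing.CotangentSpace A) * c : ℕ) : ℕ∞) := by
    show Module.length R (IsLocalRing.CotangentSpace A) = _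
    rw [(b.equivFun.restrictScalars R).length_eq, Module.length_pi_of_fintype]
    simp [hκ]
  rw [hcot, h1, h2, ← Nat.cast_add, Nat.cast_inj] at hlen
  refine Nat.eq_of_mul_eq_mul_right (Nat.pos_of_ne_zero hc) ?_
  rw [add_mul, one_mul]
  omega

/-- A configuration has a fundamental cycle. -/
theorem exists_fundamental {r : ℕ} (G : Fin r → Fin r → ℤ) (hoff : ∀ i j, i ≠ j → 0 ≤ G i j)
    (hneg : ∀ a : Fin r → ℤ, a ≠ 0 → ∑ i, ∑ j, a i * a j * G i j < 0) :
    ∃ z : Fin r → ℕ, (∀ i, 1 ≤ z i) ∧ (∀ i, ∑ j, (z j : ℤ) * G j i ≤ 0) ∧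
      ∀ z' : Fin r → ℕ, (∀ i, 1 ≤ z' i) → (∀ i, ∑ j, (z' j : ℤ) * G j i ≤ 0) → ∀ i, z i ≤ z' i := by
  classical
  have hex : ∃ s : ℕ, ∃ z : Fin r → ℕ, (∀ i, 1 ≤ z i) ∧ (∀ i, ∑ j, (z j : ℤ) * G j i ≤ 0) ∧ ∑ i, z i = s := by
    obtain ⟨d, a, hd, ha, hsol⟩ := CastLib.ArtinContract.exists_solution G hoff hneg (fun _ => 1) fun _ => one_pos
    exact ⟨_, a, ha, fun i => by rw [hsol]; simp, rfl⟩
  obtain ⟨z, hz1, hz, hs⟩ := Nat.find_spec hex
  refine ⟨z, hz1, hz, fun z' h1' h' i => ?_⟩
  let w : Fin r → ℕ := fun i => min (z i) (z' i)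
  have key : ∀ (u : Fin r → ℕ) (i : Fin r), (∀ j, w j ≤ u j) → w i = u i → (∑ j, (u j : ℤ) * G j i ≤ 0) →
      ∑ j, (w j : ℤ) * G j i ≤ 0 := fun u i hle he hu => by
    refine le_trans (Finset.sum_le_sum fun j _ => ?_) hu
    by_cases hji : j = i
    · subst hji; rw [he]
    · exact mul_le_mul_of_nonneg_right (by exact_mod_cast hle j) (hoff j i hji)
  have hw : ∀ i, ∑ j, (w j : ℤ) * G j i ≤ 0 := fun i => by
    rcases le_total (z i) (z' i) with h | h
    · exact key z i (fun j => min_le_left _ _) (min_eq_left h) (hz i)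
    · exact key z' i (fun j => min_le_right _ _) (min_eq_right h) (h' i)
  have hmin : Nat.find hex ≤ ∑ i, w i :=
    Nat.find_min' hex ⟨w, fun i => le_min (hz1 i) (h1' i), hw, rfl⟩
  by_contra hlt
  push Not at hlt
  have h2 : ∑ j, w j < ∑ j, z j := Finset.sum_lt_sum (fun j _ => min_le_left _ _)
    ⟨i, Finset.mem_univ _, lt_of_le_of_lt (min_le_right _ _) hlt⟩
  omega

variable {R : Type u} [CommRing R] [IsDomain R] [IsDiscreteValuationRing R]
variable {X : Over (Spec (CommRingCat.of R))} {r : ℕ} {Γ : Fin r → ArSurf.VertComp R X}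
variable {L : Fin r → X.left.Modules} {z : Fin r → ℕ}

/-- The cotangent dimension at the image of a rational configuration. -/
theorem finrank_cotangent_eq {Y : Over (Spec (CommRingCat.of R))} (f : X ⟶ Y) [IsProper f.left]
    [IsLocallyNoetherian Y.left] (S : Setting Γ L z) (hb : RigidLib.BijApp f.left) {y : Y.left}
    (hy : IsClosed ({y} : Set Y.left)) (hfib : f.left ⁻¹' {y} = ⋃ i, Set.range (Γ i).ι.base)
    (hne : (⋃ i, Set.range (Γ i).ι.base).Nonempty) (hz : ∀ i, z i ≠ 0)
    (hneg : ∀ a : Fin r → ℤ, a ≠ 0 →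
      (Finset.univ : Finset (Fin r × Fin r)).sum (fun p => a p.1 * a p.2 * ArSurf.inter R X (L p.2) (Γ p.1)) < 0)
    (hP : NoPic0 Γ) (hF : IsField Γ((divIdeal Γ z).subscheme, ⊤))
    (hθ : ∃ θ₁ θ₂ : Coh.structureModule (divIdeal Γ z).subscheme ⟶
        (Scheme.Modules.pullback (divIdeal Γ z).subschemeι).obj (ClSub.idealMod (divIdeal Γ z)),
      ∀ w, w ∈ CohB1.genLocus _ θ₁ ∨ w ∈ CohB1.genLocus _ θ₂)
    {q : ℕ} (hq : letI : X.left.Over (Spec (CommRingCat.of R)) := ⟨X.hom⟩; -selfInt Γ L z = (q : ℤ) * CastLib.chiLen R (ClSub.quotMod (divIdeal Γ z))) :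
    Module.finrank (IsLocalRing.ResidueField (Y.left.presheaf.stalk y))
      (IsLocalRing.CotangentSpace (Y.left.presheaf.stalk y)) = q + 1 := by
  letI : X.left.Over (Spec (CommRingCat.of R)) := ⟨X.hom⟩
  obtain ⟨hκ, hn⟩ := hilbertSamuel f S hb hy hfib hne hz hneg hP hF hθ
  have hz0 : z ≠ 0 := fun h => by
    obtain ⟨x, hx⟩ := hne
    obtain ⟨i, -⟩ := Set.mem_iUnion.1 hx
    exact hz i (congrFun h i)
  obtain ⟨hfin, hχ⟩ := length_H0_eq_chiLen S.arith S.noH1 hz0
  letI : Algebra R (Y.left.presheaf.stalk y) := (Models.stalkHom R Y y).toAlgebra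
  let c := (Module.length R (Coh.HH X.left (ClSub.quotMod (divIdeal Γ z)) 0)).toNat
  have hc : Module.length R (Coh.HH X.left (ClSub.quotMod (divIdeal Γ z)) 0) = (c : ℕ∞) :=
    (ENat.natCast_toNat hfin).symm
  have hzz : (fun i => (z i : ℤ)) ≠ 0 := fun h => hz0 (funext fun i => by
    exact Int.natCast_eq_zero.1 (congrFun h i))
  have hQ : selfInt Γ L z < 0 := hneg _ hzz
  have hc0 : c ≠ 0 := fun h => by
    have h0 : CastLib.chiLen R (ClSub.quotMod (divIdeal Γ z)) = 0 := hχ.symm.trans (congrArg Nat.cast h)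
    rw [h0, mul_zero] at hq
    omega
  have e1 : Module.length R (Y.left.presheaf.stalk y ⧸ IsLocalRing.maximalIdeal (Y.left.presheaf.stalk y) ^ 1) = c :=
    (length_residueField Y y).symm.trans (hκ.trans hc)
  refine finrank_cotangent_of_lengths hc0 e1 ?_
  rw [hn 1, e1, length_residueField Y y, e1]
  have h3 : (((1 : ℕ) : ℤ) * -selfInt Γ L z).toNat = q * c := by
    rw [Nat.cast_one, one_mul, hq, ← hχ, ← Nat.cast_mul, Int.toNat_natCast]
  rw [h3]
  push_cast
  rfl

end Groth.Agent.RatSingLib
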